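import Mathlib
import Cfsg.Agent.Small.Toolkit
import Cfsg.Agent.Classical.Misc.SmallPSL

/-!
Simple groups of order `p (p² - 1) / 2` for `p = 7, 11, 13` are `PSL(2, p)`: the action on the
`p + 1` Sylow `p`-subgroups is that on the projective line.
-/

set_option linter.unusedSectionVars false
set_option linter.style.haveILetI false

namespace Cfsg.Lib.Components.PSLUnique

open OnePoint

section Check

variable (p g m : ℕ)

def rep (j : ℕ) : ℕ :=
  if j < (p - 1) / 2 then m ^ j % p else g * m ^ (j - (p - 1) / 2) % p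

def idx (z : ℕ) : ℕ := ((List.range (p - 1)).find? fun j => rep p g m j == z).getD 0

def tab (s a b z : ℕ) : ℕ :=
  if z = p then 0 else if z = 0 then p else
    (if idx p g m z < (p - 1) / 2 then s ^ idx p g m z * a
      else s ^ (idx p g m z - (p - 1) / 2) * b) % p

def sh (u z : ℕ) : ℕ := if z = p then p else (z + u) % p

def word (s a b v z : ℕ) : ℕ :=
  tab p g m s a b (sh p ((p - tab p g m s a b v) % p)
    (tab p g m s a b (sh p v (tab p g m s a b z))))

def chkInv (s a b : ℕ) : Bool :=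
  (List.range p).all fun v => tab p g m s a b (tab p g m s a b v) == v

def chkAff (s a b : ℕ) : Bool :=
  (List.range p).all fun v => v == 0 ||
    (((word p g m s a b v 1 + p - word p g m s a b v 0) % p) ^ ((p - 1) / 2) % p == 1 &&
      (List.range p).all fun z => word p g m s a b v z ==
        ((word p g m s a b v 1 + p - word p g m s a b v 0) % p * z + word p g m s a b v 0) % p)

def isMoebius (s a b : ℕ) : Bool :=
  ((p - a) ^ ((p - 1) / 2) % p == 1) &&
    (List.range p).all fun z => z == 0 || tab p g m s a b z == a * z ^ (p - 2) % p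

def check (excl : Bool) : Bool :=
  (List.range p).all fun a => (List.range p).all fun b => (List.range ((p - 1) / 2)).all fun j =>
    a == 0 || b == 0 || (excl && j == 1) || !(chkInv p g m (m ^ j % p) a b) ||
      !(chkAff p g m (m ^ j % p) a b) || isMoebius p g m (m ^ j % p) a b

end Check

/-! ### The projective line -/

variable (F : Type*) [Field F] [DecidableEq F]

def act : Matrix.SpecialLinearGroup (Fin 2) F →* Equiv.Perm (OnePoint F) :=
  (MulAction.toPermHom (GL (Fin 2) F) (OnePoint F)).comp Matrix.SpecialLinearGroup.toGL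

variable {F}

theorem act_infty (A : Matrix.SpecialLinearGroup (Fin 2) F) :
    act F A ∞ = if A 1 0 = 0 then (∞ : OnePoint F) else ((A 0 0 / A 1 0 : F) : OnePoint F) := by
  show (Matrix.SpecialLinearGroup.toGL A : GL (Fin 2) F) • (∞ : OnePoint F) = _
  rw [OnePoint.smul_infty_eq_ite]
  rfl

theorem act_coe (A : Matrix.SpecialLinearGroup (Fin 2) F) (k : F) :
    act F A (k : OnePoint F) = if A 1 0 * k + A 1 1 = 0 then (∞ : OnePoint F)
      else (((A 0 0 * k + A 0 1) / (A 1 0 * k + A 1 1) : F) : OnePoint F) := by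
  show (Matrix.SpecialLinearGroup.toGL A : GL (Fin 2) F) • (k : OnePoint F) = _
  rw [OnePoint.smul_some_eq_ite]
  rfl

theorem center_le_ker :
    Subgroup.center (Matrix.SpecialLinearGroup (Fin 2) F) ≤ (act F).ker := by
  intro A hA
  obtain ⟨r, hr, hA'⟩ := Matrix.SpecialLinearGroup.mem_center_iff.1 hA
  have hr0 : r ≠ 0 := by
    rintro rfl
    simp at hr
  have e00 : A 0 0 = r := by rw [← hA']; simp
  have e01 : A 0 1 = 0 := by rw [← hA']; simp
  have e10 : A 1 0 = 0 := by rw [← hA']; simp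
  have e11 : A 1 1 = r := by rw [← hA']; simp
  rw [MonoidHom.mem_ker]
  ext x
  cases x with
  | infty => rw [act_infty, if_pos e10]; rfl
  | coe k =>
    rw [act_coe, e00, e01, e10, e11, zero_mul, zero_add, if_neg hr0, add_zero,
      mul_div_cancel_left₀ _ hr0]
    rfl

theorem exists_sl {a b c d : F} (h : a * d - b * c = 1) :
    ∃ A : Matrix.SpecialLinearGroup (Fin 2) F,
      A 0 0 = a ∧ A 0 1 = b ∧ A 1 0 = c ∧ A 1 1 = d :=
  ⟨⟨!![a, b; c, d], by rw [Matrix.det_fin_two]; simpa using h⟩, rfl, rfl, rfl, rfl⟩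

/-- the affine map `z ↦ e² z + c` -/
theorem affine_mem {e c : F} (he : e ≠ 0) : ∃ A : Matrix.SpecialLinearGroup (Fin 2) F,
    act F A ∞ = ∞ ∧ ∀ k : F, act F A (k : OnePoint F) = ((e ^ 2 * k + c : F) : OnePoint F) := by
  obtain ⟨A, h00, h01, h10, h11⟩ :=
    exists_sl (a := e) (b := c / e) (c := 0) (d := e⁻¹) (by simp [he])
  refine ⟨A, by rw [act_infty, if_pos h10], fun k => ?_⟩
  rw [act_coe, h00, h01, h10, h11, zero_mul, zero_add, if_neg (inv_ne_zero he)]
  refine congrArg _ ?_
  field_simp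

/-- the map `z ↦ a / z` -/
theorem swap_mem {a e : F} (ha : a ≠ 0) (he : e ^ 2 = -a) :
    ∃ A : Matrix.SpecialLinearGroup (Fin 2) F,
      act F A ∞ = ((0 : F) : OnePoint F) ∧ act F A ((0 : F) : OnePoint F) = ∞ ∧
      ∀ k : F, k ≠ 0 → act F A (k : OnePoint F) = ((a / k : F) : OnePoint F) := by
  have he0 : e ≠ 0 := by
    rintro rfl
    exact ha (by simpa using he.symm)
  have hc : e / a ≠ 0 := div_ne_zero he0 ha
  obtain ⟨A, h00, h01, h10, h11⟩ :=
    exists_sl (a := 0) (b := e) (c := e / a) (d := 0) (by field_simp; rw [he]; ring)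
  refine ⟨A, ?_, ?_, fun k hk => ?_⟩
  · rw [act_infty, h00, h10, if_neg hc, zero_div]
  · rw [act_coe, h10, h11, mul_zero, zero_add, if_pos rfl]
  · rw [act_coe, h00, h01, h10, h11, zero_mul, zero_add, add_zero,
      if_neg (mul_ne_zero hc hk)]
    refine congrArg _ ?_
    field_simp

/-! ### The action on the Sylow `p`-subgroups -/

variable {G : Type*} [Group G] [Finite G] [IsSimpleGroup G]

theorem setup {p : ℕ} [Fact p.Prime] (hnc : ¬ ∀ a b : G, a * b = b * a) {k : ℕ}
    (hcard : Nat.card G = p * k) (hpk : ¬ p ∣ k) (hn : Nat.card (Sylow p G) = p + 1) :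
    ∃ φ : G →* Equiv.Perm (OnePoint (ZMod p)), Function.Injective φ ∧ ∃ x : G,
      φ x ∞ = ∞ ∧ (∀ z : ZMod p, φ x (z : OnePoint (ZMod p)) = ((z + 1 : ZMod p) : OnePoint (ZMod p))) ∧
      (∀ w, ∃ g : G, φ g ∞ = w) ∧ (∀ g : G, φ g ∞ = ∞ → ∃ i : ℕ, g * x = x ^ i * g) ∧
      Nat.card {g : G // φ g ∞ = ∞} * (p + 1) = Nat.card G := by
  classical
  have hp : p.Prime := Fact.out
  obtain ⟨P⟩ : Nonempty (Sylow p G) := inferInstance
  have hP : Nat.card (P : Subgroup G) = p := by
    rw [Cfsg.Lib.Small.card_sylow_of_factor P (a := 1) (m := k) (by rw [pow_one]; exact hcard) hpk,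
      pow_one]
  haveI : IsCyclic (P : Subgroup G) := isCyclic_of_prime_card hP
  obtain ⟨⟨x, hxP⟩, hx⟩ := IsCyclic.exists_generator (α := (P : Subgroup G))
  have hgen : ∀ y ∈ (P : Subgroup G), ∃ i : ℕ, y = x ^ i := fun y hy => by
    have := mem_powers_iff_mem_zpowers.2 (hx ⟨y, hy⟩)
    obtain ⟨i, hi⟩ := this
    exact ⟨i, (congrArg Subtype.val hi).symm⟩
  have hx1 : x ≠ 1 := fun e => hp.one_lt.ne' (by
    rw [← hP, Subgroup.card_eq_one, Subgroup.eq_bot_iff_forall]
    intro y hy
    obtain ⟨i, rfl⟩ := hgen y hy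
    rw [e, one_pow])
  have hxo : orderOf x = p := by
    have h1 : orderOf (⟨x, hxP⟩ : (P : Subgroup G)) ∣ p := (orderOf_dvd_natCard _).trans (dvd_of_eq hP)
    rw [Subgroup.orderOf_mk] at h1
    exact ((Nat.dvd_prime hp).1 h1).resolve_left (fun e => hx1 (orderOf_eq_one_iff.1 e))
  haveI : Nontrivial (Sylow p G) := by
    haveI := Fintype.ofFinite (Sylow p G)
    rw [← Fintype.one_lt_card_iff_nontrivial, ← Nat.card_eq_fintype_card, hn]
    have := hp.pos
    omega
  obtain ⟨Q, hQ⟩ := exists_ne P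
  have hfix : x • P = P := Sylow.smul_eq_iff_mem_normalizer.2 (Subgroup.le_normalizer hxP)
  have hfixpow : ∀ i : ℕ, x ^ i • P = P := fun i =>
    Sylow.smul_eq_iff_mem_normalizer.2 (Subgroup.le_normalizer (pow_mem hxP i))
  let e0 : OnePoint (ZMod p) → Sylow p G := fun o => o.elim P (fun z => x ^ z.val • Q)
  have he0 : Function.Bijective e0 := by
    haveI := Fintype.ofFinite (Sylow p G)
    refine (Fintype.bijective_iff_injective_and_card e0).2 ⟨?_, ?_⟩
    · have hne : ∀ i : ℕ, x ^ i • Q ≠ P := fun i h => hQ (by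
        rw [← inv_smul_smul (x ^ i) Q, h, inv_smul_eq_iff, hfixpow i])
      have hinj : ∀ a b : ℕ, a ≤ b → b < p → x ^ a • Q = x ^ b • Q → a = b := by
        intro a b hab hb h
        by_contra hne'
        have h1 : x ^ (b - a) • Q = Q := by
          have : x ^ b = x ^ a * x ^ (b - a) := by rw [← pow_add]; congr 1; omega
          rw [this, mul_smul] at h
          exact (smul_left_cancel _ h).symm
        have h2 : x ^ (b - a) ≠ 1 :=
          pow_ne_one_of_lt_orderOf (by omega) (by rw [hxo]; omega)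
        exact hQ (Cfsg.Lib.Small.sylow_fixed_eq hP (pow_mem hxP _) h2 h1)
      intro o o' h
      cases o with
      | infty =>
        cases o' with
        | infty => rfl
        | coe z => exact absurd h.symm (hne _)
      | coe z =>
        cases o' with
        | infty => exact absurd h (hne _)
        | coe z' =>
          refine congrArg _ (ZMod.val_injective p ?_)
          rcases le_total z.val z'.val with hle | hle
          · exact hinj _ _ hle (ZMod.val_lt z') h
          · exact (hinj _ _ hle (ZMod.val_lt z) h.symm).symm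
    · rw [← Nat.card_eq_fintype_card, ← Nat.card_eq_fintype_card, hn]
      show Nat.card (Option (ZMod p)) = p + 1
      rw [Finite.card_option, Nat.card_zmod]
  let E : Sylow p G ≃ OnePoint (ZMod p) := (Equiv.ofBijective e0 he0).symm
  let φ : G →* Equiv.Perm (OnePoint (ZMod p)) :=
    E.permCongrHom.toMonoidHom.comp (MulAction.toPermHom G (Sylow p G))
  have hφ : ∀ g o, φ g o = E (g • e0 o) := fun g o => rfl
  have hEe : ∀ o, E (e0 o) = o := fun o => (Equiv.ofBijective e0 he0).symm_apply_apply o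
  have heE : ∀ S, e0 (E S) = S := fun S => (Equiv.ofBijective e0 he0).apply_symm_apply S
  have hstab : ∀ g, φ g ∞ = ∞ ↔ g • P = P := fun g => by
    rw [hφ]
    exact ⟨fun h => by rw [← heE (g • P), show g • P = g • e0 ∞ from rfl, h]; rfl,
      fun h => by rw [show g • e0 ∞ = e0 ∞ from h, hEe]⟩
  refine ⟨φ, ?_, x, (hstab x).2 hfix, fun z => ?_, fun w => ?_, fun g hg => ?_, ?_⟩
  · intro a b hab
    refine Cfsg.Lib.Small.toPermHom_sylow_injective hnc (p := p) ⟨k, hcard⟩ ?_
    exact E.permCongrHom.injective hab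
  · rw [hφ]
    have h1 : x • e0 (z : OnePoint (ZMod p)) = e0 ((z + 1 : ZMod p) : OnePoint (ZMod p)) := by
      show x • (x ^ z.val • Q) = x ^ (z + 1).val • Q
      rw [← mul_smul, ← pow_succ', ← pow_mod_orderOf x (z.val + 1), hxo, ZMod.val_add,
        ZMod.val_one p]
    rw [h1, hEe]
  · obtain ⟨g, hg⟩ := MulAction.exists_smul_eq G P (e0 w)
    exact ⟨g, by rw [hφ, show g • e0 ∞ = e0 w from hg, hEe]⟩
  · have hn' := Sylow.smul_eq_iff_mem_normalizer.1 ((hstab g).1 hg)
    obtain ⟨i, hi⟩ := hgen _ ((Subgroup.mem_normalizer_iff.1 hn' x).1 hxP)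
    exact ⟨i, by rw [← hi]; group⟩
  · rw [← hn]
    have h1 : Nat.card {g : G // φ g ∞ = ∞} =
        Nat.card (Subgroup.normalizer ((P : Subgroup G) : Set G)) :=
      Nat.card_congr (Equiv.subtypeEquivRight fun g =>
        (hstab g).trans Sylow.smul_eq_iff_mem_normalizer)
    rw [h1]
    exact Cfsg.Lib.Small.card_normalizer_mul P

/-- the point coded by a natural number -/
def dec (p n : ℕ) : OnePoint (ZMod p) := if n = p then ∞ else ((n : ZMod p) : OnePoint (ZMod p))

theorem dec_inj {p : ℕ} [Fact p.Prime] {a b : ℕ} (ha : a ≤ p) (hb : b ≤ p)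
    (h : dec p a = dec p b) : a = b := by
  unfold dec at h
  split_ifs at h with h1 h2 h2
  · rw [h1, h2]
  · exact absurd h (OnePoint.infty_ne_coe _)
  · exact absurd h (OnePoint.coe_ne_infty _)
  · have h3 := (ZMod.natCast_eq_natCast_iff' a b p).1 (OnePoint.coe_injective h)
    rwa [Nat.mod_eq_of_lt (lt_of_le_of_ne ha h1), Nat.mod_eq_of_lt (lt_of_le_of_ne hb h2)] at h3

theorem dec_of_lt {p n : ℕ} (h : n < p) : dec p n = ((n : ZMod p) : OnePoint (ZMod p)) :=
  if_neg h.ne

theorem dec_p (p : ℕ) : dec p p = (∞ : OnePoint (ZMod p)) := if_pos rfl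

theorem exists_iso {p : ℕ} [Fact p.Prime] (g m r0 : ℕ) (excl : Bool)
    (hp5 : 5 ≤ p)
    (hcheck : check p g m excl = true)
    (hidx : ∀ z < p, z ≠ 0 → idx p g m z < p - 1 ∧ rep p g m (idx p g m z) = z)
    (hroots : Nat.card {z : ZMod p // z ^ ((p - 1) / 2) = 1} = (p - 1) / 2)
    (hgen : ∀ z : ZMod p, z ^ ((p - 1) / 2) = 1 → ∃ j < (p - 1) / 2, z = (m : ZMod p) ^ j)
    (hm : (m : ZMod p) ^ ((p - 1) / 2) = 1) (hr0 : (r0 : ZMod p) ^ 2 = (m : ZMod p))
    (hm1 : (g : ZMod p) ≠ 0)
    (hnc : ¬ ∀ a b : G, a * b = b * a)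
    (hcard : Nat.card G = p * (((p - 1) / 2) * (p + 1))) (hn : Nat.card (Sylow p G) = p + 1)
    (hexcl : excl = true → ∀ t y : G, orderOf t = 2 → y ≠ 1 → y ^ ((p - 1) / 2) = 1 →
      t * y ≠ y * t)
    {K : Type*} [Field K] [Fintype K] (hK : Fintype.card K = p) :
    Nonempty (G ≃* Matrix.ProjectiveSpecialLinearGroup (Fin 2) K) := by
  classical
  have hp : p.Prime := Fact.out
  set h := (p - 1) / 2 with hh
  have hh0 : 2 ≤ h := by omega
  have hodd : p % 2 = 1 := (hp.eq_two_or_odd).resolve_left (by omega)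
  have hp2 : 2 * h = p - 1 := by omega
  have hpk : ¬ p ∣ h * (p + 1) := by
    rw [hp.dvd_mul]
    rintro (hd | hd)
    · have := Nat.le_of_dvd (by omega) hd
      omega
    · have : p ∣ 1 := (Nat.dvd_add_right (dvd_refl p)).1 hd
      exact hp.not_dvd_one this
  obtain ⟨φ, hφi, x, hxI, hxs, htr, hnorm, hNcard⟩ := setup hnc hcard hpk hn
  have hmul : ∀ a b o, φ (a * b) o = φ a (φ b o) := fun a b o => by rw [map_mul]; rfl
  have hinvap : ∀ a o, φ a⁻¹ (φ a o) = o := fun a o => by
    rw [← hmul, inv_mul_cancel, map_one]; rfl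
  have hxpow : ∀ i : ℕ, φ (x ^ i) ∞ = ∞ ∧ ∀ z : ZMod p,
      φ (x ^ i) (z : OnePoint (ZMod p)) = ((z + i : ZMod p) : OnePoint (ZMod p)) := by
    intro i
    induction i with
    | zero => simp
    | succ i ih =>
      refine ⟨by rw [pow_succ', hmul, ih.1, hxI], fun z => ?_⟩
      rw [pow_succ', hmul, ih.2, hxs]
      push_cast
      rw [add_assoc]
  have hext : ∀ a b, (∀ o, φ a o = φ b o) → a = b := fun a b hab => hφi (Equiv.ext hab)
  -- the stabiliser of the point at infinity
  have haff0 : ∀ a : G, φ a ∞ = ∞ → ∃ M c : ZMod p, ∀ z : ZMod p,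
      φ a (z : OnePoint (ZMod p)) = ((M * z + c : ZMod p) : OnePoint (ZMod p)) := by
    intro a ha
    obtain ⟨i, hi⟩ := hnorm a ha
    obtain ⟨c, hc⟩ : ∃ c : ZMod p, φ a ((0 : ZMod p) : OnePoint (ZMod p)) = c := by
      cases hq : φ a ((0 : ZMod p) : OnePoint (ZMod p)) with
      | infty => exact absurd ((φ a).injective (hq.trans ha.symm)) (OnePoint.coe_ne_infty _)
      | coe c => exact ⟨c, rfl⟩
    refine ⟨(i : ZMod p), c, fun z => ?_⟩
    rw [← ZMod.natCast_zmod_val z]
    generalize z.val = n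
    induction n with
    | zero => simpa using hc
    | succ n ih =>
      push_cast
      rw [← hxs, ← hmul, hi, hmul, ih, (hxpow i).2]
      refine congrArg _ ?_
      ring
  let H : Subgroup G :=
    { carrier := {a | φ a ∞ = ∞ ∧ φ a ((0 : ZMod p) : OnePoint (ZMod p)) = ((0 : ZMod p) : OnePoint (ZMod p))}
      mul_mem' := fun {a b} ha hb => ⟨by rw [hmul, hb.1, ha.1], by rw [hmul, hb.2, ha.2]⟩
      one_mem' := by simp
      inv_mem' := fun {a} ha =>
        ⟨(congrArg (φ a⁻¹) ha.1).symm.trans (hinvap _ _),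
          (congrArg (φ a⁻¹) ha.2).symm.trans (hinvap _ _)⟩ }
  have hHlin : ∀ a ∈ H, ∃ M : ZMod p, ∀ z : ZMod p,
      φ a (z : OnePoint (ZMod p)) = ((M * z : ZMod p) : OnePoint (ZMod p)) := by
    intro a ha
    obtain ⟨M, c, hM⟩ := haff0 a ha.1
    have hc : c = 0 := by
      have := (hM 0).symm.trans ha.2
      simpa using OnePoint.coe_injective this
    exact ⟨M, fun z => by rw [hM, hc, add_zero]⟩
  choose μ hμ using hHlin
  have hHcard : Nat.card H = h := by
    have e : {a : G // φ a ∞ = ∞} ≃ ZMod p × H :=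
      { toFun := fun a =>
          let c := (haff0 a.1 a.2).choose_spec.choose
          (c, ⟨(x ^ c.val)⁻¹ * a.1, by
            refine ⟨?_, ?_⟩
            · rw [hmul, a.2]
              exact (congrArg (φ (x ^ c.val)⁻¹) (hxpow _).1).symm.trans (hinvap _ _)
            · rw [hmul, (haff0 a.1 a.2).choose_spec.choose_spec 0, mul_zero, zero_add]
              have := (hxpow c.val).2 0
              rw [zero_add, ZMod.natCast_zmod_val] at this
              exact (congrArg (φ (x ^ c.val)⁻¹) this).symm.trans (hinvap _ _)⟩)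
        invFun := fun b => ⟨x ^ b.1.val * b.2.1, by rw [hmul, b.2.2.1, (hxpow _).1]⟩
        left_inv := fun a => Subtype.ext (mul_inv_cancel_left _ _)
        right_inv := fun b => by
          have hbN : φ (x ^ b.1.val * b.2.1) ∞ = ∞ := by rw [hmul, b.2.2.1, (hxpow _).1]
          have h1 := (haff0 _ hbN).choose_spec.choose_spec 0
          rw [hmul, b.2.2.2, (hxpow _).2, zero_add, mul_zero, zero_add,
            ZMod.natCast_zmod_val] at h1
          have hc : (haff0 _ hbN).choose_spec.choose = b.1 := (OnePoint.coe_injective h1).symm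
          refine Prod.ext hc (Subtype.ext ?_)
          show (x ^ _)⁻¹ * (x ^ b.1.val * b.2.1) = b.2.1
          rw [hc, inv_mul_cancel_left] }
    rw [Nat.card_congr e, Nat.card_prod, Nat.card_zmod, hcard] at hNcard
    have h3 : p * ((Nat.card H) * (p + 1)) = p * (h * (p + 1)) := by rw [← hNcard]; ring
    exact Nat.eq_of_mul_eq_mul_right (by omega) (Nat.eq_of_mul_eq_mul_left hp.pos h3)
  have hμh : ∀ a (ha : a ∈ H), μ a ha ^ h = 1 := by
    intro a ha
    have hpow : ∀ i : ℕ, ∀ z : ZMod p,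
        φ (a ^ i) (z : OnePoint (ZMod p)) = ((μ a ha ^ i * z : ZMod p) : OnePoint (ZMod p)) := by
      intro i
      induction i with
      | zero => simp
      | succ i ih =>
        intro z
        rw [pow_succ', hmul, ih, hμ a ha, pow_succ', mul_assoc]
    have h1 : a ^ h = 1 := by
      have h2 : orderOf (⟨a, ha⟩ : H) ∣ Nat.card H := orderOf_dvd_natCard _
      rw [Subgroup.orderOf_mk, hHcard] at h2
      exact orderOf_dvd_iff_pow_eq_one.1 h2
    have h2 := hpow h 1
    rw [h1, map_one, mul_one] at h2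
    exact (OnePoint.coe_injective h2).symm
  have hHsurj : ∀ M : ZMod p, M ^ h = 1 → ∃ a, ∃ ha : a ∈ H, μ a ha = M := by
    let f : H → {z : ZMod p // z ^ h = 1} := fun a => ⟨μ a.1 a.2, hμh a.1 a.2⟩
    have hf : Function.Injective f := by
      intro a b hab
      have h1 : μ a.1 a.2 = μ b.1 b.2 := congrArg Subtype.val hab
      refine Subtype.ext (hext _ _ fun o => ?_)
      cases o with
      | infty => rw [a.2.1, b.2.1]
      | coe z => rw [hμ a.1 a.2, hμ b.1 b.2, h1]
    have hbij : Function.Bijective f := by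
      haveI := Fintype.ofFinite H
      refine (Fintype.bijective_iff_injective_and_card f).2 ⟨hf, ?_⟩
      rw [← Nat.card_eq_fintype_card, ← Nat.card_eq_fintype_card, hHcard, hroots]
    intro M hM
    obtain ⟨⟨a, ha⟩, hfa⟩ := hbij.2 ⟨M, hM⟩
    exact ⟨a, ha, congrArg Subtype.val hfa⟩
  have haff : ∀ a : G, φ a ∞ = ∞ → ∃ M c : ZMod p, M ^ h = 1 ∧ ∀ z : ZMod p,
      φ a (z : OnePoint (ZMod p)) = ((M * z + c : ZMod p) : OnePoint (ZMod p)) := by
    intro a ha
    obtain ⟨M, c, hM⟩ := haff0 a ha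
    have hmem : (x ^ c.val)⁻¹ * a ∈ H := by
      refine ⟨?_, ?_⟩
      · rw [hmul, ha]
        exact (congrArg (φ (x ^ c.val)⁻¹) (hxpow _).1).symm.trans (hinvap _ _)
      · rw [hmul, hM 0, mul_zero, zero_add]
        have := (hxpow c.val).2 0
        rw [zero_add, ZMod.natCast_zmod_val] at this
        exact (congrArg (φ (x ^ c.val)⁻¹) this).symm.trans (hinvap _ _)
    refine ⟨μ _ hmem, c, hμh _ hmem, fun z => ?_⟩
    conv_lhs => rw [← mul_inv_cancel_left (x ^ c.val) a]
    rw [hmul, hμ _ hmem, (hxpow _).2, ZMod.natCast_zmod_val]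
  -- an involution interchanging `∞` and `0`
  obtain ⟨t, hto, htI, ht0⟩ : ∃ t : G, orderOf t = 2 ∧ φ t ∞ = ((0 : ZMod p) : OnePoint (ZMod p)) ∧
      φ t ((0 : ZMod p) : OnePoint (ZMod p)) = ∞ := by
    haveI : Fact (Nat.Prime 2) := ⟨Nat.prime_two⟩
    obtain ⟨u, hu⟩ := exists_prime_orderOf_dvd_card' (G := G) 2 (by
      rw [hcard]
      exact dvd_mul_of_dvd_right (dvd_mul_of_dvd_right (by omega) _) _)
    have huu : ∀ o, φ u (φ u o) = o := fun o => by
      rw [← hmul, ← pow_two, ← hu, pow_orderOf_eq_one, map_one]; rfl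
    have hu1 : u ≠ 1 := fun e => by simp [e] at hu
    obtain ⟨w, hw⟩ : ∃ w, φ u w ≠ w := by
      by_contra hall
      push Not at hall
      exact hu1 (hext u 1 fun o => by rw [map_one]; exact hall o)
    obtain ⟨a, ha⟩ := htr w
    have hne : φ a⁻¹ (φ u w) ≠ ∞ := fun e => hw (by
      have := congrArg (φ a) e
      rw [← hmul, mul_inv_cancel, map_one] at this
      exact this.trans ha)
    obtain ⟨c, hc⟩ := OnePoint.ne_infty_iff_exists.1 hne
    set b := a * x ^ c.val with hb
    have hbI : φ b ∞ = w := by rw [hb, hmul, (hxpow _).1, ha]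
    have hb0 : φ b ((0 : ZMod p) : OnePoint (ZMod p)) = φ u w := by
      rw [hb, hmul, (hxpow _).2, zero_add, ZMod.natCast_zmod_val, hc, ← hmul, mul_inv_cancel,
        map_one]
      rfl
    refine ⟨b⁻¹ * u * b, ?_, ?_, ?_⟩
    · have : b⁻¹ * u * b = MulAut.conj b⁻¹ u := by simp
      rw [this, MulEquiv.orderOf_eq, hu]
    · rw [hmul, hmul, hbI, ← hb0, hinvap]
    · rw [hmul, hmul, hb0, huu, ← hbI, hinvap]
  have htt : ∀ o, φ t (φ t o) = o := fun o => by
    rw [← hmul, ← pow_two, ← hto, pow_orderOf_eq_one, map_one]; rfl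
  have htcoe : ∀ z : ZMod p, z ≠ 0 → ∃ w : ZMod p, w ≠ 0 ∧ φ t (z : OnePoint (ZMod p)) = w := by
    intro z hz
    cases hq : φ t (z : OnePoint (ZMod p)) with
    | infty => exact absurd (OnePoint.coe_injective ((φ t).injective (hq.trans ht0.symm))) hz
    | coe w =>
      refine ⟨w, ?_, rfl⟩
      rintro rfl
      exact OnePoint.coe_ne_infty _ ((φ t).injective (hq.trans htI.symm))
  obtain ⟨A, hA0, hA⟩ := htcoe 1 one_ne_zero
  obtain ⟨B, hB0, hB⟩ := htcoe (g : ZMod p) hm1
  obtain ⟨h0, hh0H, hh0μ⟩ := hHsurj _ hm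
  have hk : t * h0 * t ∈ H :=
    ⟨by rw [hmul, hmul, htI, hh0H.2, ht0], by rw [hmul, hmul, ht0, hh0H.1, htI]⟩
  obtain ⟨s, hs⟩ : ∃ s, s = μ _ hk := ⟨_, rfl⟩
  obtain ⟨j, hj, hsj⟩ := hgen s (hs ▸ hμh _ hk)
  have hstep : ∀ z w : ZMod p, φ t (z : OnePoint (ZMod p)) = w →
      φ t (((m : ZMod p) * z : ZMod p) : OnePoint (ZMod p)) = ((s * w : ZMod p) : OnePoint (ZMod p)) := by
    intro z w hzw
    have h1 := hμ _ hk w
    rw [← hs, hmul, hmul, ← hzw, htt, hμ _ hh0H, hh0μ] at h1
    exact h1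
  have hpowt : ∀ i : ℕ, φ t (((m : ZMod p) ^ i : ZMod p) : OnePoint (ZMod p)) = ((s ^ i * A : ZMod p) : OnePoint (ZMod p)) ∧
      φ t (((g : ZMod p) * (m : ZMod p) ^ i : ZMod p) : OnePoint (ZMod p)) = ((s ^ i * B : ZMod p) : OnePoint (ZMod p)) := by
    intro i
    induction i with
    | zero => simp only [pow_zero, one_mul, mul_one]; exact ⟨hA, hB⟩
    | succ i ih =>
      refine ⟨?_, ?_⟩
      · rw [pow_succ', hstep _ _ ih.1, pow_succ', mul_assoc]
      · rw [pow_succ', mul_left_comm, hstep _ _ ih.2, pow_succ', mul_assoc]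
  -- everything as tables of natural numbers
  set S := m ^ j % p with hS
  set a := A.val with hadef
  set b := B.val with hbdef
  have hSs : (S : ZMod p) = s := by rw [hS, ZMod.natCast_mod, Nat.cast_pow, hsj]
  let T := tab p g m S a b
  have hT : ∀ z ≤ p, T z ≤ p ∧ φ t (dec p z) = dec p (T z) := by
    intro z hz
    rcases eq_or_ne z p with rfl | hzp
    · have : T z = 0 := by show tab z g m S a b z = 0; simp [tab]
      refine ⟨by rw [this]; omega, ?_⟩
      rw [this, dec_p, dec_of_lt (by omega), Nat.cast_zero, htI]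
    have hzlt : z < p := by omega
    rcases eq_or_ne z 0 with rfl | hz0
    · have : T 0 = p := by show tab p g m S a b 0 = p; simp [tab, (by omega : ¬ 0 = p)]
      refine ⟨by omega, ?_⟩
      rw [this, dec_p, dec_of_lt hzlt, Nat.cast_zero, ht0]
    have hTz : T z = (if idx p g m z < h then S ^ idx p g m z * a
        else S ^ (idx p g m z - h) * b) % p := by
      show tab p g m S a b z = _
      simp [tab, hzp, hz0, hh]
    have hlt : T z < p := by rw [hTz]; exact Nat.mod_lt _ hp.pos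
    refine ⟨hlt.le, ?_⟩
    rw [dec_of_lt hzlt, dec_of_lt hlt, hTz, ZMod.natCast_mod]
    obtain ⟨hi, hrep⟩ := hidx z hzlt hz0
    conv_lhs => rw [← hrep]
    unfold rep
    rw [← hh]
    split_ifs with hcase
    · rw [ZMod.natCast_mod, Nat.cast_pow, (hpowt _).1, Nat.cast_mul, Nat.cast_pow, hSs, hadef,
        ZMod.natCast_zmod_val]
    · rw [ZMod.natCast_mod, Nat.cast_mul, Nat.cast_pow, (hpowt _).2, Nat.cast_mul, Nat.cast_pow,
        hSs, hbdef, ZMod.natCast_zmod_val]
  have hshift : ∀ u z : ℕ, z ≤ p → sh p u z ≤ p ∧ φ (x ^ u) (dec p z) = dec p (sh p u z) := by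
    intro u z hz
    unfold sh
    split_ifs with hzp
    · exact ⟨le_rfl, by rw [hzp, dec_p, (hxpow u).1]⟩
    · have hlt : (z + u) % p < p := Nat.mod_lt _ hp.pos
      refine ⟨hlt.le, ?_⟩
      rw [dec_of_lt (by omega : z < p), dec_of_lt hlt, (hxpow u).2, ZMod.natCast_mod, Nat.cast_add]
  have hinvchk : chkInv p g m S a b = true := by
    refine List.all_eq_true.2 fun v hv => beq_iff_eq.2 ?_
    have hvp : v < p := List.mem_range.1 hv
    obtain ⟨h1, h2⟩ := hT v hvp.le
    obtain ⟨h3, h4⟩ := hT _ h1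
    refine dec_inj h3 hvp.le ?_
    rw [← h4, ← h2, htt]
  have haffchk : chkAff p g m S a b = true := by
    refine List.all_eq_true.2 fun v hv => ?_
    have hvp : v < p := List.mem_range.1 hv
    rcases eq_or_ne v 0 with rfl | hv0
    · rfl
    set u := (p - T v) % p with hu
    set W := t * x ^ u * t * x ^ v * t with hW
    have hWd : ∀ z ≤ p, word p g m S a b v z ≤ p ∧ φ W (dec p z) = dec p (word p g m S a b v z) := by
      intro z hz
      obtain ⟨l1, e1⟩ := hT z hz
      obtain ⟨l2, e2⟩ := hshift v _ l1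
      obtain ⟨l3, e3⟩ := hT _ l2
      obtain ⟨l4, e4⟩ := hshift u _ l3
      obtain ⟨l5, e5⟩ := hT _ l4
      refine ⟨l5, ?_⟩
      rw [hW, hmul, hmul, hmul, hmul, e1, e2, e3, e4, e5]
      rfl
    have hWI : φ W ∞ = ∞ := by
      have hTv : φ t (v : ZMod p) = ((T v : ZMod p) : OnePoint (ZMod p)) ∧ T v ≤ p := by
        obtain ⟨w, -, hw⟩ := htcoe (v : ZMod p) (by
          rw [Ne, ZMod.natCast_eq_zero_iff]
          exact fun hd => hv0 (Nat.eq_zero_of_dvd_of_lt hd hvp))
        obtain ⟨l, e⟩ := hT v hvp.le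
        rw [dec_of_lt hvp] at e
        refine ⟨?_, l⟩
        rw [e]
        refine dec_of_lt (lt_of_le_of_ne l fun h' => ?_)
        rw [h', dec_p, hw] at e
        exact OnePoint.coe_ne_infty _ e
      rw [hW, hmul, hmul, hmul, hmul, htI, (hxpow v).2, zero_add, hTv.1, (hxpow u).2, hu,
        ZMod.natCast_mod, Nat.cast_sub hTv.2, ZMod.natCast_self, zero_sub, add_neg_cancel, ht0]
    obtain ⟨M, c, hMh, hM⟩ := haff W hWI
    have hval : ∀ z < p, word p g m S a b v z < p ∧
        ((word p g m S a b v z : ℕ) : ZMod p) = M * (z : ZMod p) + c := by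
      intro z hz
      obtain ⟨l, e⟩ := hWd z hz.le
      rw [dec_of_lt hz, hM] at e
      have hne : word p g m S a b v z ≠ p := fun h' => by
        rw [h', dec_p] at e
        exact OnePoint.coe_ne_infty _ e
      have hlt := lt_of_le_of_ne l hne
      rw [dec_of_lt hlt] at e
      exact ⟨hlt, (OnePoint.coe_injective e).symm⟩
    obtain ⟨l0, e0⟩ := hval 0 hp.pos
    obtain ⟨l1, e1⟩ := hval 1 hp.one_lt
    rw [Nat.cast_zero, mul_zero, zero_add] at e0
    rw [Nat.cast_one, mul_one] at e1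
    set mm := (word p g m S a b v 1 + p - word p g m S a b v 0) % p with hmm
    have hmmM : (mm : ZMod p) = M := by
      rw [hmm, ZMod.natCast_mod, Nat.cast_sub (by omega), Nat.cast_add, ZMod.natCast_self, e0, e1]
      ring
    rw [Bool.or_eq_true, Bool.and_eq_true, List.all_eq_true]
    refine Or.inr ⟨beq_iff_eq.2 ?_, fun z hz => beq_iff_eq.2 ?_⟩
    · have : ((mm ^ h : ℕ) : ZMod p) = ((1 : ℕ) : ZMod p) := by
        rw [Nat.cast_pow, hmmM, hMh, Nat.cast_one]
      rw [ZMod.natCast_eq_natCast_iff', Nat.mod_eq_of_lt hp.one_lt] at this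
      exact this
    · obtain ⟨lz, ez⟩ := hval z (List.mem_range.1 hz)
      have : ((word p g m S a b v z : ℕ) : ZMod p) =
          ((mm * z + word p g m S a b v 0 : ℕ) : ZMod p) := by
        rw [ez, Nat.cast_add, Nat.cast_mul, hmmM, e0]
      rw [ZMod.natCast_eq_natCast_iff', Nat.mod_eq_of_lt lz] at this
      exact this
  have hmoeb : isMoebius p g m S a b = true := by
    have hc := List.all_eq_true.1 hcheck a (List.mem_range.2 (ZMod.val_lt A))
    have hc' := List.all_eq_true.1 hc b (List.mem_range.2 (ZMod.val_lt B))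
    have hc'' := List.all_eq_true.1 hc' j (List.mem_range.2 (hh ▸ hj))
    have ha0 : (a == 0) = false := beq_eq_false_iff_ne.2 fun h' => hA0 (ZMod.val_eq_zero A |>.1 h')
    have hb0 : (b == 0) = false := beq_eq_false_iff_ne.2 fun h' => hB0 (ZMod.val_eq_zero B |>.1 h')
    rw [← hS, hinvchk, haffchk, ha0, hb0] at hc''
    have hex : (excl && j == 1) = false := by
      cases hexc : excl with
      | false => rfl
      | true =>
        rw [Bool.true_and, beq_eq_false_iff_ne]
        intro hj1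
        rw [hj1, pow_one] at hsj
        have hne : h0 ≠ 1 := by
          intro he
          have h1 := hμ _ hh0H 1
          have h2 : φ h0 ((1 : ZMod p) : OnePoint (ZMod p)) = ((1 : ZMod p) : OnePoint (ZMod p)) := by
            rw [he, map_one]; rfl
          rw [h2, hh0μ, mul_one] at h1
          have h3 : (m : ZMod p) = 1 := (OnePoint.coe_injective h1).symm
          have hsub : Subsingleton {z : ZMod p // z ^ h = 1} := ⟨fun u v => by
            obtain ⟨i, -, hi⟩ := hgen u.1 u.2
            obtain ⟨k, -, hk⟩ := hgen v.1 v.2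
            exact Subtype.ext (by rw [hi, hk, h3, one_pow, one_pow])⟩
          have := Finite.card_le_one_iff_subsingleton.2 hsub
          rw [hroots] at this
          omega
        have hpowh : h0 ^ h = 1 := by
          have h2 : orderOf (⟨h0, hh0H⟩ : H) ∣ Nat.card H := orderOf_dvd_natCard _
          rw [Subgroup.orderOf_mk, hHcard] at h2
          exact orderOf_dvd_iff_pow_eq_one.1 h2
        refine hexcl hexc t h0 hto hne hpowh ?_
        have heq : t * h0 * t = h0 := by
          refine hext _ _ fun o => ?_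
          cases o with
          | infty => rw [hk.1, hh0H.1]
          | coe z => rw [hμ _ hk, hμ _ hh0H, ← hs, hsj, hh0μ]
        have ht2 : t * t = 1 := by rw [← pow_two, ← hto, pow_orderOf_eq_one]
        calc t * h0 = t * h0 * (t * t) := by rw [ht2, mul_one]
          _ = h0 * t := by rw [← mul_assoc, heq]
    rw [hex] at hc''
    simpa using hc''
  rw [isMoebius, Bool.and_eq_true, beq_iff_eq, List.all_eq_true] at hmoeb
  have hasq : ∃ e : ZMod p, e ^ 2 = -A := by
    have h1 : (-A) ^ h = 1 := by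
      have := congrArg (Nat.cast : ℕ → ZMod p) hmoeb.1
      rwa [ZMod.natCast_mod, Nat.cast_pow, Nat.cast_sub (ZMod.val_lt A).le, ZMod.natCast_self,
        ZMod.natCast_zmod_val, zero_sub, Nat.cast_one, ← hh] at this
    obtain ⟨i, -, hi⟩ := hgen _ h1
    exact ⟨(r0 : ZMod p) ^ i, by rw [← pow_mul, mul_comm, pow_mul, hr0, hi]⟩
  have htf : ∀ z : ZMod p, z ≠ 0 →
      φ t (z : OnePoint (ZMod p)) = ((A / z : ZMod p) : OnePoint (ZMod p)) := by
    intro z hz
    have hzv : z.val ≠ 0 := fun h' => hz ((ZMod.val_eq_zero z).1 h')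
    have h1 := hmoeb.2 z.val (List.mem_range.2 (ZMod.val_lt z))
    rw [Bool.or_eq_true, beq_iff_eq, beq_iff_eq] at h1
    have h2 : T z.val = a * z.val ^ (p - 2) % p := h1.resolve_left hzv
    obtain ⟨-, e⟩ := hT z.val (ZMod.val_lt z).le
    rw [h2, dec_of_lt (ZMod.val_lt z), dec_of_lt (Nat.mod_lt _ hp.pos), ZMod.natCast_mod,
      Nat.cast_mul, Nat.cast_pow, hadef, ZMod.natCast_zmod_val, ZMod.natCast_zmod_val] at e
    rw [e]
    refine congrArg _ ?_
    have h3 : z ^ (p - 2) * z = 1 := by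
      rw [← pow_succ, (by omega : p - 2 + 1 = p - 1), ZMod.pow_card_sub_one_eq_one hz]
    rw [eq_div_iff hz, mul_assoc, h3, mul_one]
  -- transport to `K`
  obtain ⟨e, he⟩ := hasq
  let R : ZMod p ≃+* K := ZMod.ringEquivOfPrime K hp hK
  let E : OnePoint (ZMod p) ≃ OnePoint K := Equiv.optionCongr R.toEquiv
  have hEI : E ∞ = ∞ := rfl
  have hEc : ∀ z : ZMod p, E (z : OnePoint (ZMod p)) = ((R z : K) : OnePoint K) := fun z => rfl
  let ψ : G →* Equiv.Perm (OnePoint K) := E.permCongrHom.toMonoidHom.comp φ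
  have hψ : ∀ a o, ψ a (E o) = E (φ a o) := fun a o => by
    show E (φ a (E.symm (E o))) = _
    rw [E.symm_apply_apply]
  have hψi : Function.Injective ψ := E.permCongrHom.injective.comp hφi
  have hstab' : ∀ a, φ a ∞ = ∞ → ψ a ∈ (act K).range := by
    intro a ha
    obtain ⟨M, c, hMh, hM⟩ := haff a ha
    obtain ⟨i, -, hi⟩ := hgen _ hMh
    have hM2 : M = ((r0 : ZMod p) ^ i) ^ 2 := by rw [← pow_mul, mul_comm, pow_mul, hr0, hi]
    have hr : (r0 : ZMod p) ^ i ≠ 0 := fun h' => by
      rw [h', zero_pow two_ne_zero] at hM2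
      rw [hM2, zero_pow (by omega)] at hMh
      exact zero_ne_one hMh
    obtain ⟨L, hL1, hL2⟩ := affine_mem (c := R c) ((map_ne_zero R).2 hr)
    refine ⟨L, Equiv.ext fun o => ?_⟩
    obtain ⟨o, rfl⟩ := E.surjective o
    rw [hψ]
    cases o with
    | infty => rw [ha, hEI, hL1]
    | coe z => rw [hM, hEc, hEc, hL2, hM2]; simp only [map_add, map_mul, map_pow]
  have htmem : ψ t ∈ (act K).range := by
    obtain ⟨L, hL1, hL2, hL3⟩ := swap_mem (a := R A) (e := R e) ((map_ne_zero R).2 hA0)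
      (by rw [← map_pow, he, map_neg])
    refine ⟨L, Equiv.ext fun o => ?_⟩
    obtain ⟨o, rfl⟩ := E.surjective o
    rw [hψ]
    cases o with
    | infty => rw [htI, hEI, hL1, hEc, map_zero]
    | coe z =>
      rw [hEc]
      rcases eq_or_ne z 0 with rfl | hz
      · rw [map_zero, hL2, ht0, hEI]
      · rw [hL3 _ ((map_ne_zero R).2 hz), htf z hz, hEc, map_div₀]
  have hall : ∀ a : G, ψ a ∈ (act K).range := by
    intro a
    cases hq : φ a ∞ with
    | infty => exact hstab' a hq
    | coe w =>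
      have h1 : φ (t * (x ^ w.val)⁻¹ * a) ∞ = ∞ := by
        have h2 : φ (x ^ w.val)⁻¹ (w : OnePoint (ZMod p)) = ((0 : ZMod p) : OnePoint (ZMod p)) := by
          have := (hxpow w.val).2 0
          rw [zero_add, ZMod.natCast_zmod_val] at this
          exact (congrArg (φ (x ^ w.val)⁻¹) this).symm.trans (hinvap _ _)
        rw [hmul, hmul, hq, h2, ht0]
      have h2 : a = x ^ w.val * t⁻¹ * (t * (x ^ w.val)⁻¹ * a) := by group
      rw [h2, map_mul, map_mul, map_inv]
      exact mul_mem (mul_mem (hstab' _ (hxpow _).1) (inv_mem htmem)) (hstab' _ h1)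
  let ρ : Matrix.ProjectiveSpecialLinearGroup (Fin 2) K →* Equiv.Perm (OnePoint K) :=
    QuotientGroup.lift _ (act K) center_le_ker
  have hρ : ∀ a, ψ a ∈ ρ.range := fun a => by
    obtain ⟨L, hL⟩ := hall a
    exact ⟨QuotientGroup.mk L, hL⟩
  have hcardP : Nat.card (Matrix.ProjectiveSpecialLinearGroup (Fin 2) K) = Nat.card G := by
    have h1 := Cfsg.Lib.Classical.SmallPSL.card_psl (F := K) hK
    have h2 : Nat.gcd 2 (p - 1) = 2 := Nat.gcd_eq_left (by omega)
    have h3 : p ^ 2 - 1 = 2 * h * (p + 1) := by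
      rw [hp2, mul_comm]
      simpa using Nat.sq_sub_sq p 1
    rw [h2, h3] at h1
    rw [hcard]
    refine Nat.eq_of_mul_eq_mul_left two_pos ?_
    rw [h1]
    ring
  let f : G →* ρ.range := ψ.codRestrict ρ.range hρ
  have hf : Function.Injective f := fun u v huv => hψi (congrArg Subtype.val huv)
  have h1 : Nat.card G ≤ Nat.card ρ.range := Nat.card_le_card_of_injective f hf
  have h2 : Nat.card ρ.range ≤ Nat.card (Matrix.ProjectiveSpecialLinearGroup (Fin 2) K) :=
    Nat.card_le_card_of_surjective _ ρ.rangeRestrict_surjective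
  have hfb : Function.Bijective f := by
    haveI := Fintype.ofFinite G
    haveI := Fintype.ofFinite ρ.range
    refine (Fintype.bijective_iff_injective_and_card f).2 ⟨hf, ?_⟩
    rw [← Nat.card_eq_fintype_card, ← Nat.card_eq_fintype_card]
    omega
  have hρb : Function.Bijective ρ.rangeRestrict := by
    haveI := Fintype.ofFinite ρ.range
    haveI := Fintype.ofFinite (Matrix.ProjectiveSpecialLinearGroup (Fin 2) K)
    refine (Fintype.bijective_iff_surjective_and_card _).2 ⟨ρ.rangeRestrict_surjective, ?_⟩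
    rw [← Nat.card_eq_fintype_card, ← Nat.card_eq_fintype_card]
    omega
  exact ⟨(MulEquiv.ofBijective f hfb).trans (MulEquiv.ofBijective _ hρb).symm⟩

end Cfsg.Lib.Components.PSLUnique
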