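import Mathlib
import Cfsg.Agent.Small.Toolkit

/-!
A simple group of order 360 is the alternating group of degree 6: its action on the ten Sylow
3-subgroups is determined.
-/

set_option linter.unusedSectionVars false
set_option linter.style.haveILetI false

namespace Cfsg.Lib.Components.OrderThreeSixty

/-! ### The line over the field of nine elements -/

abbrev V := ZMod 3 × ZMod 3

def mulV (u v : V) : V := (u.1 * v.1 - u.2 * v.2, u.1 * v.2 + u.2 * v.1)

def invV (u : V) : V := (u.1 * (u.1 * u.1 + u.2 * u.2), -(u.2 * (u.1 * u.1 + u.2 * u.2)))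

def ip : ℕ → V
  | 0 => (1, 0)
  | n + 1 => mulV (0, 1) (ip n)

def rep (j : ℕ) : V := if j < 4 then ip j else mulV (1, 1) (ip (j - 4))

def idx (z : V) : ℕ := ((List.range 8).find? fun j => rep j == z).getD 0

def tab (k : ℕ) (a b : V) : Option V → Option V
  | none => some 0
  | some z => if z = 0 then none else
      some (if idx z < 4 then mulV (ip (k * idx z % 4)) a else mulV (ip (k * (idx z - 4) % 4)) b)

def word (k : ℕ) (a b v : V) (z : Option V) : Option V :=
  tab k a b ((tab k a b ((tab k a b z).map (· + v))).map (· + -((tab k a b (some v)).getD 0)))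

theorem idx_spec : ∀ z : V, z ≠ 0 → idx z < 8 ∧ rep (idx z) = z := by decide +kernel

theorem mulV_assoc : ∀ a b c : V, mulV (mulV a b) c = mulV a (mulV b c) := by decide +kernel

theorem mulV_one : ∀ a : V, mulV (1, 0) a = a := by decide +kernel

theorem mulV_comm : ∀ a b : V, mulV a b = mulV b a := by decide +kernel

theorem mulV_add : ∀ a b c : V, mulV a (b + c) = mulV a b + mulV a c := by decide +kernel

theorem one_ne : ((1, 0) : V) ≠ 0 := by decide

theorem gen_ne : ((1, 1) : V) ≠ 0 := by decide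

theorem mulV_zero : ∀ a : V, mulV a 0 = 0 := by decide +kernel

theorem ip_four : ip 4 = (1, 0) := by decide +kernel

theorem ip_add (m n : ℕ) : ip (m + n) = mulV (ip m) (ip n) := by
  induction m with
  | zero => rw [Nat.zero_add]; exact (mulV_one _).symm
  | succ m ih => rw [Nat.succ_add]; show mulV _ _ = mulV (mulV _ _) _; rw [ih, mulV_assoc]

theorem ip_mod (n : ℕ) : ip (n % 4) = ip n := by
  conv_rhs => rw [← Nat.mod_add_div n 4]
  have h : ∀ q, ip (4 * q) = (1, 0) := by
    intro q
    induction q with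
    | zero => rfl
    | succ q ih => rw [Nat.mul_succ, ip_add, ih, mulV_one, ip_four]
  rw [ip_add, h, mulV_comm, mulV_one]

set_option synthInstance.maxSize 4000 in
set_option synthInstance.maxHeartbeats 200000 in
theorem tab_unique : ∀ k : Fin 4, ∀ a b : V, a ≠ 0 → b ≠ 0 →
    (∀ v : V, tab k a b (tab k a b (some v)) = some v) →
    (∀ v : V, v ≠ 0 → ∃ K : Fin 4, ∀ z : V,
      word k a b v (some z) = (word k a b v (some 0)).map (mulV (ip K) z + ·)) →
    (∃ K : Fin 4, a = ip K) ∧ ∀ z : V, z ≠ 0 → tab k a b (some z) = some (mulV a (invV z)) := by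
  decide +kernel

def shiftP (c : V) : Equiv.Perm (Option V) := Equiv.optionCongr (Equiv.addRight c)

def turn : Equiv.Perm (Option V) where
  toFun := Option.map (mulV (0, 1))
  invFun := Option.map (mulV (0, 2))
  left_inv := by decide +kernel
  right_inv := by decide +kernel

def swapP : Equiv.Perm (Option V) where
  toFun | none => some 0 | some z => if z = 0 then none else some (invV z)
  invFun | none => some 0 | some z => if z = 0 then none else some (invV z)
  left_inv := by decide +kernel
  right_inv := by decide +kernel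

def flipP : Equiv.Perm (Option V) where
  toFun := Option.map fun z => (z.1, -z.2)
  invFun := Option.map fun z => (z.1, -z.2)
  left_inv := by decide +kernel
  right_inv := by decide +kernel

theorem sign_flipP : Equiv.Perm.sign flipP = -1 := by decide +kernel

theorem scale_spec : ∀ K : Fin 4, ∃ L : V, ∃ Li : V, mulV L Li = (1, 0) ∧
    mulV (mulV L L) (ip K) = (1, 0) := by decide +kernel

theorem scale_swap : ∀ K : Fin 4, ∀ L Li z : V, mulV L Li = (1, 0) →
    mulV (mulV L L) (ip K) = (1, 0) → z ≠ 0 →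
    mulV L (mulV (ip K) (invV (mulV Li z))) = invV z ∧ mulV Li z ≠ 0 := by decide +kernel

/-- the reference permutation group -/
def refGroup : Subgroup (Equiv.Perm (Option V)) :=
  Subgroup.closure (Set.range shiftP ∪ {turn, swapP})

/-! ### The Sylow 3-subgroups -/

variable {G : Type*} [Group G] [Finite G] [IsSimpleGroup G]

open Cfsg.Lib.Small

theorem hnc (h : Nat.card G = 360) : ¬ ∀ a b : G, a * b = b * a :=
  not_comm_of_isSimple (by rw [h]; norm_num)

theorem sylow_card (h : Nat.card G = 360) [Fact (Nat.Prime 3)] (P : Sylow 3 G) :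
    Nat.card (P : Subgroup G) = 9 := by
  rw [card_sylow_of_factor P (a := 2) (m := 40) (by rw [h]; norm_num) (by norm_num)]
  norm_num

theorem sylow_comm (h : Nat.card G = 360) [Fact (Nat.Prime 3)] (P : Sylow 3 G) {a b : G}
    (ha : a ∈ (P : Subgroup G)) (hb : b ∈ (P : Subgroup G)) : a * b = b * a := by
  have hc : Nat.card (P : Subgroup G) = 3 ^ 2 := by rw [sylow_card h P]; norm_num
  haveI := IsPGroup.isMulCommutative_of_card_eq_prime_sq hc
  exact congrArg Subtype.val
    ((IsMulCommutative.is_comm (M := (P : Subgroup G))).comm ⟨a, ha⟩ ⟨b, hb⟩)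

theorem index_ge (h : Nat.card G = 360) {H : Subgroup G} (hH : H ≠ ⊤) : 6 ≤ H.index := by
  have h1 := two_mul_card_dvd_index_factorial (hnc h) H hH
  rw [h] at h1
  by_contra hlt
  have h2 : H.index ≠ 0 := Subgroup.index_ne_zero_of_finite
  have h3 : H.index < 6 := not_le.1 hlt
  generalize H.index = n at h1 h2 h3
  interval_cases n <;> first | omega | (norm_num [Nat.factorial] at h1)

theorem card_sylow_three (h : Nat.card G = 360) [Fact (Nat.Prime 3)] :
    Nat.card (Sylow 3 G) = 10 := by
  obtain ⟨P⟩ : Nonempty (Sylow 3 G) := inferInstance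
  obtain ⟨h1, h2⟩ := sylow_facts P (a := 2) (m := 40) (by rw [h]; norm_num) (by norm_num)
  have h3 := card_sylow_ne_one (p := 3) (hnc h) (by rw [h]; norm_num)
  have hle : Nat.card (Sylow 3 G) ≤ 40 := Nat.le_of_dvd (by norm_num) h1
  have hN := card_normalizer_mul P
  have h4 : Nat.card (Sylow 3 G) ≠ 4 := by
    intro e
    have := index_ge h (H := Subgroup.normalizer ((P : Subgroup G) : Set G)) (by
      intro e'
      rw [e', Subgroup.card_top, e, h] at hN
      omega)
    rw [show (Subgroup.normalizer ((P : Subgroup G) : Set G)).index = Nat.card (Sylow 3 G) from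
      P.card_eq_index_normalizer.symm, e] at this
    omega
  have h5 : Nat.card (Sylow 3 G) ≠ 40 := by
    intro e
    rw [e, h] at hN
    have hle' : (P : Subgroup G) ≤ Subgroup.normalizer ((P : Subgroup G) : Set G) :=
      Subgroup.le_normalizer
    have heq : Subgroup.normalizer ((P : Subgroup G) : Set G) = (P : Subgroup G) :=
      (Subgroup.eq_of_le_of_card_ge hle' (by rw [sylow_card h P]; omega)).symm
    refine not_normalizer_le_centralizer (hnc h) (by rw [h]; norm_num) P ?_
    rw [heq]
    exact fun a ha => Subgroup.mem_centralizer_iff.2 fun b hb => sylow_comm h P hb ha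
  generalize Nat.card (Sylow 3 G) = n at h1 h2 h3 hle h4 h5
  interval_cases n <;> omega

theorem card_normalizer (h : Nat.card G = 360) [Fact (Nat.Prime 3)] (P : Sylow 3 G) :
    Nat.card (Subgroup.normalizer ((P : Subgroup G) : Set G)) = 36 := by
  have hN := card_normalizer_mul P
  rw [card_sylow_three h, h] at hN
  omega

/-- Sylow 3-subgroups meet trivially. -/
theorem sylow_inf (h : Nat.card G = 360) [Fact (Nat.Prime 3)] {P Q : Sylow 3 G} (hne : P ≠ Q) :
    (P : Subgroup G) ⊓ Q = ⊥ := by
  classical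
  rw [Subgroup.eq_bot_iff_forall]
  by_contra! hall
  obtain ⟨d, hd, hd1⟩ := hall
  obtain ⟨hdP, hdQ⟩ := Subgroup.mem_inf.1 hd
  set M := Subgroup.centralizer ({d} : Set G) with hM
  have hPM : (P : Subgroup G) ≤ M := fun a ha =>
    Subgroup.mem_centralizer_singleton_iff.2 (sylow_comm h P ha hdP)
  have hQM : (Q : Subgroup G) ≤ M := fun a ha =>
    Subgroup.mem_centralizer_singleton_iff.2 (sylow_comm h Q ha hdQ)
  have hMtop : M ≠ ⊤ := centralizer_ne_top (hnc h) hd1
  have h9 : 9 ∣ Nat.card M := sylow_card h P ▸ Subgroup.card_dvd_of_le hPM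
  have hMG : Nat.card M ∣ 360 := h ▸ Subgroup.card_subgroup_dvd_card M
  have hidx := index_ge h hMtop
  have hmul := M.card_mul_index
  rw [h] at hmul
  set PM : Sylow 3 M := P.subtype hPM
  set QM : Sylow 3 M := Q.subtype hQM
  have hPQ : PM ≠ QM := fun e => hne (Sylow.subtype_injective e)
  obtain ⟨k, hk⟩ := h9
  have hk40 : k ∣ 40 := Nat.dvd_of_mul_dvd_mul_left (by norm_num : 0 < 9) (by rw [← hk]; exact hMG)
  have h3k : ¬ 3 ∣ k := fun h3 => by
    have := h3.trans hk40
    norm_num at this
  have hMc : Nat.card M = 3 ^ 2 * k := by rw [hk]; norm_num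
  obtain ⟨hn1, hn2⟩ := sylow_facts PM (a := 2) (m := k) hMc h3k
  have hn4 : 4 ≤ Nat.card (Sylow 3 M) := by
    have h1 : 1 < Nat.card (Sylow 3 M) := by
      rw [Finite.one_lt_card_iff_nontrivial]
      exact ⟨⟨PM, QM, hPQ⟩⟩
    omega
  have hk0 : 0 < k := Nat.pos_of_ne_zero fun e => by
    rw [e, mul_zero] at hk
    exact (Nat.card_pos (α := M)).ne' hk
  have hk4 : k = 4 := by
    have hle := Nat.le_of_dvd hk0 hn1
    have hk6 : 9 * k * 6 ≤ 360 := by
      rw [← hk]
      exact (Nat.mul_le_mul_left _ hidx).trans hmul.le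
    have hkle : k ≤ 6 := by omega
    rcases (by omega : k = 4 ∨ k = 5 ∨ k = 6) with e | e | e
    · exact e
    · subst e
      rcases (Nat.dvd_prime (by norm_num : Nat.Prime 5)).1 hn1 with e | e
      · omega
      · rw [e] at hn2; omega
    · subst e; norm_num at hk40
  subst hk4
  have hM36 : Nat.card M = 36 := hk
  have hn3 : Nat.card (Sylow 3 M) = 4 := le_antisymm (Nat.le_of_dvd (by norm_num) hn1) hn4
  haveI : Fact (Nat.Prime 2) := ⟨Nat.prime_two⟩
  -- the Sylow 2-subgroup of the centralizer is normal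
  obtain ⟨S⟩ : Nonempty (Sylow 2 M) := inferInstance
  have hS : Nat.card (S : Subgroup M) = 4 := by
    rw [card_sylow_of_factor S (a := 2) (m := 9) (by rw [hM36]; norm_num) (by norm_num)]
    norm_num
  have hScomm : ∀ a b : M, a ∈ (S : Subgroup M) → b ∈ (S : Subgroup M) → a * b = b * a := by
    intro a b ha hb
    have hc : Nat.card (S : Subgroup M) = 2 ^ 2 := by rw [hS]; norm_num
    haveI := IsPGroup.isMulCommutative_of_card_eq_prime_sq hc
    exact congrArg Subtype.val
      ((IsMulCommutative.is_comm (M := (S : Subgroup M))).comm ⟨a, ha⟩ ⟨b, hb⟩)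
  set d' : M := ⟨d, hPM hdP⟩
  have hdc : ∀ a : M, d' * a = a * d' := fun a => Subtype.ext
    (Subgroup.mem_centralizer_singleton_iff.1 a.2).symm
  obtain ⟨hs1, hs2⟩ := sylow_facts S (a := 2) (m := 9) (by rw [hM36]; norm_num) (by norm_num)
  have hsone : Nat.card (Sylow 2 M) = 1 := by
    by_contra hsne
    set N := Subgroup.normalizer ((S : Subgroup M) : Set M)
    have hNS := card_normalizer_mul S
    rw [hM36] at hNS
    have hdo : orderOf d' = 3 ∨ orderOf d' = 9 := by
      have h1 : orderOf d ∣ 3 ^ 2 := by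
        have h2 : orderOf (⟨d, hdP⟩ : (P : Subgroup G)) ∣ Nat.card (P : Subgroup G) :=
          orderOf_dvd_natCard _
        rw [Subgroup.orderOf_mk, sylow_card h P] at h2
        simpa using h2
      obtain ⟨i, hi, he⟩ := (Nat.dvd_prime_pow Nat.prime_three).1 h1
      have h2 : orderOf d ≠ 1 := fun e => hd1 (orderOf_eq_one_iff.1 e)
      rw [Subgroup.orderOf_mk, he]
      interval_cases i
      · exact absurd he h2
      · exact Or.inl (pow_one 3)
      · exact Or.inr (by norm_num)
    have hdN : d' ∈ N := Subgroup.mem_normalizer_iff.2 fun a => by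
      rw [hdc a, mul_inv_cancel_right]
    let f : ↥(S : Subgroup M) × ↥(Subgroup.zpowers d') → ↥N := fun q =>
      ⟨q.1.1 * q.2.1, mul_mem (Subgroup.le_normalizer q.1.2)
        (Subgroup.zpowers_le.2 hdN q.2.2)⟩
    have hcop : ∀ a : M, a ∈ (S : Subgroup M) → a ∈ Subgroup.zpowers d' → a = 1 := by
      intro a ha ha'
      have h1 : orderOf a ∣ 4 := hS ▸ (Subgroup.orderOf_mk a ha ▸ orderOf_dvd_natCard (⟨a, ha⟩ : (S : Subgroup M)))
      have h2 : orderOf a ∣ orderOf d' := orderOf_dvd_of_mem_zpowers ha'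
      have h3 : orderOf a ∣ 9 := by
        rcases hdo with e | e <;> rw [e] at h2
        · exact h2.trans (by norm_num)
        · exact h2
      exact orderOf_eq_one_iff.1 (Nat.dvd_one.1 (Nat.Coprime.eq_one_of_dvd
        (Nat.Coprime.coprime_dvd_left h1 (by norm_num : Nat.Coprime 4 9)) h3 ▸ dvd_rfl))
    have hfi : Function.Injective f := by
      intro q r hqr
      have h1 : q.1.1 * q.2.1 = r.1.1 * r.2.1 := congrArg Subtype.val hqr
      have h2 : r.1.1⁻¹ * q.1.1 = r.2.1 * q.2.1⁻¹ := by
        rw [eq_mul_inv_iff_mul_eq, mul_assoc, h1, inv_mul_cancel_left]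
      have h3 := hcop _ (mul_mem (inv_mem r.1.2) q.1.2) (h2 ▸ mul_mem r.2.2 (inv_mem q.2.2))
      have h4 : q.1.1 = r.1.1 := (inv_mul_eq_one.1 h3).symm
      exact Prod.ext (Subtype.ext h4) (Subtype.ext (mul_left_cancel (h4 ▸ h1)))
    have hcard := Nat.card_le_card_of_injective f hfi
    rw [Nat.card_prod, hS, Nat.card_zpowers] at hcard
    have hN12 : Nat.card (Sylow 2 M) ≤ 3 := by
      rcases hdo with e | e <;> rw [e] at hcard <;> nlinarith
    have hN : Nat.card (Sylow 2 M) = 3 := by
      have h0 : 0 < Nat.card (Sylow 2 M) := Nat.card_pos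
      omega
    rw [hN] at hNS
    have hbij : Function.Surjective f := by
      haveI := Fintype.ofFinite (↥(S : Subgroup M) × ↥(Subgroup.zpowers d'))
      haveI := Fintype.ofFinite N
      refine ((Fintype.bijective_iff_injective_and_card f).2 ⟨hfi, ?_⟩).2
      rw [← Nat.card_eq_fintype_card, ← Nat.card_eq_fintype_card, Nat.card_prod, hS,
        Nat.card_zpowers]
      have hN' : Nat.card N * 3 = 36 := hNS
      rcases hdo with e | e <;> rw [e] at hcard ⊢ <;> omega
    have hle : N ≤ Subgroup.centralizer ((S : Subgroup M) : Set M) := fun a ha =>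
      Subgroup.mem_centralizer_iff.2 fun b hb => by
        obtain ⟨q, hq⟩ := hbij ⟨a, ha⟩
        have hq' : q.1.1 * q.2.1 = a := congrArg Subtype.val hq
        obtain ⟨i, hi⟩ := Subgroup.mem_zpowers_iff.1 q.2.2
        have hz : b * q.2.1 = q.2.1 * b := by
          rw [← hi]
          exact ((Commute.zpow_left (hdc b) i).eq).symm
        rw [← hq', ← mul_assoc, hScomm b _ hb q.1.2, mul_assoc, hz, mul_assoc]
    have hcompl := MonoidHom.ker_transferSylow_isComplement' S hle
    have hker := hcompl.card_mul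
    rw [hS, hM36] at hker
    set K := (MonoidHom.transferSylow S hle).ker
    have hK : Nat.card K = 9 := by omega
    have hKnormal : K.Normal := MonoidHom.normal_ker _
    have hall : ∀ R : Sylow 3 M, (R : Subgroup M) = K := by
      intro R
      have hR : Nat.card (R : Subgroup M) = 9 := by
        rw [card_sylow_of_factor R (a := 2) (m := 4) hMc (by norm_num)]
        norm_num
      obtain ⟨R', hR'⟩ := (IsPGroup.of_card (p := 3) (n := 2) (hK.trans (by norm_num))).exists_le_sylow
      have hR'c : Nat.card (R' : Subgroup M) = 9 := by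
        rw [card_sylow_of_factor R' (a := 2) (m := 4) hMc (by norm_num)]
        norm_num
      have e : K = (R' : Subgroup M) :=
        Subgroup.eq_of_le_of_card_ge hR' (le_of_eq (hR'c.trans hK.symm))
      obtain ⟨g, hg⟩ := MulAction.exists_smul_eq M R' R
      haveI : (R' : Subgroup M).Normal := e ▸ hKnormal
      rw [← hg, Sylow.smul_eq_of_normal, e]
    exact hPQ (Sylow.ext ((hall PM).trans (hall QM).symm))
  haveI : Subsingleton (Sylow 2 M) := (Nat.card_eq_one_iff_unique.1 hsone).1
  haveI hSn : (S : Subgroup M).Normal := Sylow.normal_of_subsingleton S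
  -- so its normalizer in the whole group is too large
  set S₀ := (S : Subgroup M).map M.subtype
  have hS₀ : Nat.card S₀ = 4 := by
    rw [Subgroup.card_map_of_injective M.subtype_injective, hS]
  obtain ⟨T, hT⟩ := (IsPGroup.of_card (p := 2) (n := 2) (hS₀.trans (by norm_num))).exists_le_sylow
  have hT8 : Nat.card (T : Subgroup G) = 8 := by
    rw [card_sylow_of_factor T (a := 3) (m := 45) (by rw [h]; norm_num) (by norm_num)]
    norm_num
  have hMN : M ≤ Subgroup.normalizer (S₀ : Set G) := by
    have := Subgroup.le_normalizer_map (H := (S : Subgroup M)) M.subtype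
    rwa [Subgroup.normalizer_eq_top_iff.2 hSn, ← MonoidHom.range_eq_map, Subgroup.range_subtype]
      at this
  have hTN : (T : Subgroup G) ≤ Subgroup.normalizer (S₀ : Set G) := by
    have hidx2 : (S₀.subgroupOf (T : Subgroup G)).index = 2 := by
      have h1 := (S₀.subgroupOf (T : Subgroup G)).card_mul_index
      rw [Nat.card_congr (Subgroup.subgroupOfEquivOfLe hT).toEquiv, hS₀, hT8] at h1
      omega
    haveI := Subgroup.normal_of_index_eq_two hidx2
    exact Subgroup.normal_subgroupOf_iff_le_normalizer hT |>.1 inferInstance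
  set U := Subgroup.normalizer (S₀ : Set G)
  have hU1 : 36 ∣ Nat.card U := hM36 ▸ Subgroup.card_dvd_of_le hMN
  have hU2 : 8 ∣ Nat.card U := hT8 ▸ Subgroup.card_dvd_of_le hTN
  have hUtop : U ≠ ⊤ := by
    intro e
    haveI : S₀.Normal := Subgroup.normalizer_eq_top_iff.1 e
    rcases (inferInstance : S₀.Normal).eq_bot_or_eq_top with e' | e'
    · rw [e', Subgroup.card_bot] at hS₀; omega
    · rw [e', Subgroup.card_top, h] at hS₀; omega
  have hU := index_ge h hUtop
  have hUmul := U.card_mul_index
  rw [h] at hUmul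
  have hpos : 0 < Nat.card U := Nat.card_pos
  have : Nat.card U * 6 ≤ 360 := by nlinarith
  omega

theorem normalizer_inf (h : Nat.card G = 360) [Fact (Nat.Prime 3)] {P Q : Sylow 3 G} (hne : Q ≠ P)
    {a : G} (ha : a ∈ (P : Subgroup G)) (hfix : a • Q = Q) : a = 1 := by
  have h1 : a ∈ (P : Subgroup G) ⊓ Q := by
    rw [← P.2.inf_normalizer_sylow Q]
    exact ⟨ha, Sylow.smul_eq_iff_mem_normalizer.1 hfix⟩
  rw [sylow_inf h hne.symm, Subgroup.mem_bot] at h1
  exact h1

theorem orbit_others (h : Nat.card G = 360) [Fact (Nat.Prime 3)] {P Q : Sylow 3 G} (hne : Q ≠ P)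
    {R : Sylow 3 G} (hR : R ≠ P) : ∃ a ∈ (P : Subgroup G), a • Q = R := by
  classical
  haveI := Fintype.ofFinite (Sylow 3 G)
  haveI := Fintype.ofFinite (P : Subgroup G)
  have hPfix : ∀ a ∈ (P : Subgroup G), a • P = P := fun a ha =>
    Sylow.smul_eq_iff_mem_normalizer.2 (Subgroup.le_normalizer ha)
  let f : ↥(P : Subgroup G) → {R : Sylow 3 G // R ≠ P} := fun a => ⟨a.1 • Q, fun e => hne (by
    rw [← inv_smul_smul a.1 Q, e, inv_smul_eq_iff, hPfix _ a.2])⟩
  have hf : Function.Injective f := by
    intro a b hab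
    have h1 : a.1 • Q = b.1 • Q := congrArg Subtype.val hab
    have h2 : (b.1⁻¹ * a.1) • Q = Q := by rw [mul_smul, h1, inv_smul_smul]
    exact Subtype.ext (inv_mul_eq_one.1
      (normalizer_inf h hne (mul_mem (inv_mem b.2) a.2) h2)).symm
  have hb : Function.Bijective f := by
    refine (Fintype.bijective_iff_injective_and_card f).2 ⟨hf, ?_⟩
    rw [Fintype.card_subtype_compl, Fintype.card_subtype_eq, ← Nat.card_eq_fintype_card,
      ← Nat.card_eq_fintype_card, sylow_card h P, card_sylow_three h]
  obtain ⟨a, ha⟩ := hb.2 ⟨R, hR⟩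
  exact ⟨a.1, a.2, congrArg Subtype.val ha⟩

/-- An element centralising a Sylow 3-subgroup `P` and fixing a second one is trivial. -/
theorem eq_one_of_centralizes (h : Nat.card G = 360) [Fact (Nat.Prime 3)] {P Q : Sylow 3 G}
    (hne : Q ≠ P) {c : G} (hcP : ∀ a ∈ (P : Subgroup G), c * a = a * c) (hcQ : c • Q = Q) :
    c = 1 := by
  refine toPermHom_sylow_injective (hnc h) (p := 3) (by rw [h]; norm_num) ?_
  rw [map_one]
  refine Equiv.ext fun R => ?_
  show c • R = R
  by_cases hR : R = P
  · rw [hR, Sylow.smul_eq_iff_mem_normalizer]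
    refine Subgroup.mem_normalizer_iff.2 fun b => ⟨fun hb => by rwa [hcP b hb, mul_inv_cancel_right],
      fun hb => ?_⟩
    have h1 : c * (c * b * c⁻¹) = (c * b * c⁻¹) * c := hcP _ hb
    rw [inv_mul_cancel_right] at h1
    have h2 : c * b * c⁻¹ = b := mul_left_cancel h1
    rwa [h2] at hb
  · obtain ⟨a, ha, rfl⟩ := orbit_others h hne hR
    rw [smul_smul, hcP a ha, ← smul_smul, hcQ]

theorem sylow_cube (h : Nat.card G = 360) [Fact (Nat.Prime 3)] (P : Sylow 3 G) {x : G}
    (hx : x ∈ (P : Subgroup G)) : x ^ 3 = 1 := by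
  classical
  haveI : Fact (Nat.Prime 2) := ⟨Nat.prime_two⟩
  by_contra hx3
  have hxo : orderOf x ∣ 3 ^ 2 := by
    have h2 : orderOf (⟨x, hx⟩ : (P : Subgroup G)) ∣ Nat.card (P : Subgroup G) :=
      orderOf_dvd_natCard _
    rw [Subgroup.orderOf_mk, sylow_card h P] at h2
    simpa using h2
  have hx9 : orderOf x = 9 := by
    obtain ⟨i, hi, he⟩ := (Nat.dvd_prime_pow Nat.prime_three).1 hxo
    interval_cases i
    · exact absurd (orderOf_dvd_iff_pow_eq_one.1 (he ▸ (by norm_num : (3:ℕ) ^ 0 ∣ 3))) hx3
    · exact absurd (orderOf_dvd_iff_pow_eq_one.1 (he ▸ (by norm_num : (3:ℕ) ^ 1 ∣ 3))) hx3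
    · simpa using he
  haveI : IsCyclic (P : Subgroup G) :=
    isCyclic_of_orderOf_eq_card ⟨x, hx⟩ (by rw [Subgroup.orderOf_mk, hx9, sylow_card h P])
  set N := Subgroup.normalizer ((P : Subgroup G) : Set G)
  obtain ⟨S⟩ : Nonempty (Sylow 2 N) := inferInstance
  have hS : Nat.card (S : Subgroup N) = 4 := by
    rw [card_sylow_of_factor S (a := 2) (m := 9)
      (by rw [card_normalizer h P]; norm_num) (by norm_num)]
    norm_num
  let ρ : (S : Subgroup N) →* MulAut (P : Subgroup G) :=
    (P : Subgroup G).normalizerMonoidHom.comp (S : Subgroup N).subtype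
  have hρ : Function.Injective ρ := by
    rw [← MonoidHom.ker_eq_bot_iff]
    by_contra hker
    haveI := (Subgroup.nontrivial_iff_ne_bot _).2 hker
    obtain ⟨n, hn⟩ : ∃ n, Nat.card ρ.ker = 2 ^ n := (S.2.to_subgroup ρ.ker).exists_card_eq
    have hn0 : n ≠ 0 := fun e => by
      rw [e, pow_zero] at hn
      exact (Finite.one_lt_card (α := ρ.ker)).ne' hn
    obtain ⟨⟨g, hg⟩, hgo⟩ := exists_prime_orderOf_dvd_card' (G := ρ.ker) 2
      (hn ▸ dvd_pow_self 2 hn0)
    rw [Subgroup.orderOf_mk] at hgo
    have hgo' : orderOf g.1.1 = 2 := by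
      exact (orderOf_submonoid g.1).trans ((orderOf_submonoid g).trans hgo)
    have hcP : ∀ a ∈ (P : Subgroup G), g.1.1 * a = a * g.1.1 := by
      intro a ha
      have h1 := congrArg (fun (α : MulAut (P : Subgroup G)) => ((α ⟨a, ha⟩ : (P : Subgroup G)) : G))
        (MonoidHom.mem_ker.1 hg)
      have h2 : g.1.1 * a * g.1.1⁻¹ = a := h1
      calc g.1.1 * a = g.1.1 * a * g.1.1⁻¹ * g.1.1 := by rw [inv_mul_cancel_right]
        _ = a * g.1.1 := by rw [h2]
    haveI := Fintype.ofFinite (Sylow 3 G)
    set σ := MulAction.toPermHom G (Sylow 3 G) g.1.1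
    have hσ : σ ^ 2 ^ 1 = 1 := by
      rw [pow_one, ← map_pow, orderOf_dvd_iff_pow_eq_one.1 hgo'.dvd, map_one]
    have hmod := Equiv.Perm.card_compl_support_modEq hσ
    rw [← Nat.card_eq_fintype_card, card_sylow_three h] at hmod
    have hPfix : P ∈ σ.supportᶜ := by
      rw [Finset.mem_compl, Equiv.Perm.notMem_support]
      exact Sylow.smul_eq_iff_mem_normalizer.2 g.1.2
    have hone : 1 < σ.supportᶜ.card := by
      have h0 : 0 < σ.supportᶜ.card := Finset.card_pos.2 ⟨P, hPfix⟩
      have := hmod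
      unfold Nat.ModEq at this
      omega
    obtain ⟨Q, hQ, hQP⟩ := Finset.exists_mem_ne hone P
    rw [Finset.mem_compl, Equiv.Perm.notMem_support] at hQ
    have := eq_one_of_centralizes h hQP hcP hQ
    rw [this, orderOf_one] at hgo'
    omega
  have hdvd := Subgroup.card_dvd_of_injective ρ hρ
  rw [hS, Nat.card_congr (IsCyclic.mulAutMulEquiv (P : Subgroup G)).toEquiv, sylow_card h P,
    Nat.card_eq_fintype_card, ZMod.card_units_eq_totient] at hdvd
  · have : Nat.totient 9 = 6 := by decide
    omega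

/-! ### Coordinates -/

theorem zmod_three_no_sqrt : ∀ e : ZMod 3, e * e + 1 ≠ 0 := by decide

theorem zmod_three_sq : ∀ e : ZMod 3, e ≠ 0 → e.val * e.val % 3 = 1 := by decide

/-- the element of `P` with given coordinates -/
def θ (x y : G) (v : V) : G := x ^ v.1.val * y ^ v.2.val

theorem pow_val_add {x : G} (hx : x ^ 3 = 1) (a b : ZMod 3) :
    x ^ (a + b).val = x ^ a.val * x ^ b.val := by
  rw [← pow_add, ZMod.val_add]
  conv_rhs => rw [← Nat.mod_add_div (a.val + b.val) 3, pow_add, pow_mul, hx, one_pow, mul_one]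

theorem θ_add {x y : G} (hx : x ^ 3 = 1) (hy : y ^ 3 = 1) (hxy : x * y = y * x) (u v : V) :
    θ x y (u + v) = θ x y u * θ x y v := by
  unfold θ
  rw [Prod.fst_add, Prod.snd_add, pow_val_add hx, pow_val_add hy]
  have : Commute (x ^ v.1.val) (y ^ u.2.val) := (Commute.pow_pow hxy _ _)
  rw [mul_assoc, ← mul_assoc (x ^ v.1.val), this.eq]
  simp only [mul_assoc]

theorem coords (h : Nat.card G = 360) [Fact (Nat.Prime 3)] {P Q : Sylow 3 G} (hne : Q ≠ P)
    {x y : G} (hx : x ∈ (P : Subgroup G)) (hy : y ∈ (P : Subgroup G)) (hx1 : x ≠ 1)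
    (hyx : y ∉ Subgroup.zpowers x) :
    ∃ φ : G →* Equiv.Perm (Option V), Function.Injective φ ∧
      (∀ g, φ g none = none ↔ g • P = P) ∧ (∀ w, ∃ g, φ g none = w) ∧
      (∀ c : V, φ (θ x y c) = shiftP c) ∧
      (∀ g, g • P = P → g • Q = Q → φ g (some 0) = some 0 ∧ ∀ v w : V,
        g * θ x y v = θ x y w * g → φ g (some v) = some w) ∧
      (∀ g, φ g (some 0) = some 0 → g • Q = Q) := by
  classical
  haveI := Fintype.ofFinite (Sylow 3 G)
  have hcub := fun {a : G} (ha : a ∈ (P : Subgroup G)) => sylow_cube h P ha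
  have hxy := sylow_comm h P hx hy
  have hadd := θ_add (hcub hx) (hcub hy) hxy
  have hθP : ∀ v, θ x y v ∈ (P : Subgroup G) := fun v => mul_mem (pow_mem hx _) (pow_mem hy _)
  have h0 : θ x y 0 = 1 := by simp [θ]
  have hker : ∀ v, θ x y v = 1 → v = 0 := by
    intro v hv
    unfold θ at hv
    have hv2 : v.2 = 0 := by
      by_contra hne2
      apply hyx
      have h1 : y ^ v.2.val = (x ^ v.1.val)⁻¹ := eq_inv_of_mul_eq_one_right hv
      have hmem : y ^ v.2.val ∈ Subgroup.zpowers x := by
        rw [h1]; exact inv_mem (Subgroup.npow_mem_zpowers x _)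
      have h2 : y = (y ^ v.2.val) ^ v.2.val := by
        rw [← pow_mul, ← Nat.mod_add_div (v.2.val * v.2.val) 3, pow_add, pow_mul y 3, hcub hy,
          one_pow, mul_one]
        rw [zmod_three_sq _ hne2, pow_one]
      rw [h2]
      exact pow_mem hmem _
    rw [hv2, ZMod.val_zero, pow_zero, mul_one] at hv
    have hxo : orderOf x = 3 := orderOf_eq_prime (hcub hx) hx1
    have h1 := Nat.eq_zero_of_dvd_of_lt (hxo.symm.dvd.trans (orderOf_dvd_of_pow_eq_one hv)) (ZMod.val_lt v.1)
    exact Prod.ext ((ZMod.val_eq_zero v.1).1 h1) hv2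
  have hPfix : ∀ a ∈ (P : Subgroup G), a • P = P := fun a ha =>
    Sylow.smul_eq_iff_mem_normalizer.2 (Subgroup.le_normalizer ha)
  let e0 : Option V → Sylow 3 G := fun o => o.elim P fun v => θ x y v • Q
  have he0 : Function.Bijective e0 := by
    refine (Fintype.bijective_iff_injective_and_card e0).2 ⟨?_, ?_⟩
    · have hne' : ∀ v, θ x y v • Q ≠ P := fun v e => hne (by
        rw [← inv_smul_smul (θ x y v) Q, e, inv_smul_eq_iff, hPfix _ (hθP v)])
      rintro (_ | u) (_ | v) huv
      · rfl
      · exact absurd huv.symm (hne' v)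
      · exact absurd huv (hne' u)
      · have h1 : θ x y (u - v) • Q = Q := by
          have h2 : θ x y v • θ x y (u - v) • Q = θ x y v • Q := by
            rw [smul_smul, ← hadd, add_sub_cancel]
            exact huv
          exact smul_left_cancel _ h2
        have h3 := hker _ (normalizer_inf h hne (hθP _) h1)
        rw [sub_eq_zero] at h3
        rw [h3]
    · rw [← Nat.card_eq_fintype_card (α := Sylow 3 G), card_sylow_three h]
      decide
  let E : Sylow 3 G ≃ Option V := (Equiv.ofBijective e0 he0).symm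
  let φ : G →* Equiv.Perm (Option V) :=
    E.permCongrHom.toMonoidHom.comp (MulAction.toPermHom G (Sylow 3 G))
  have hφ : ∀ g o, φ g o = E (g • e0 o) := fun g o => rfl
  have hEe : ∀ o, E (e0 o) = o := fun o => (Equiv.ofBijective e0 he0).symm_apply_apply o
  have heE : ∀ S, e0 (E S) = S := fun S => (Equiv.ofBijective e0 he0).apply_symm_apply S
  have hval : ∀ g o o', g • e0 o = e0 o' ↔ φ g o = o' := fun g o o' => by
    rw [hφ]
    exact ⟨fun e => by rw [e, hEe], fun e => by rw [← e, heE]⟩
  have hQ0 : e0 (some 0) = Q := by show θ x y 0 • Q = Q; rw [h0, one_smul]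
  refine ⟨φ, ?_, fun g => (hval g none none).symm, fun w => ?_, fun c => ?_, fun g hgP hgQ => ?_,
    fun g hg => ?_⟩
  · intro a b hab
    exact toPermHom_sylow_injective (hnc h) (p := 3) (by rw [h]; norm_num)
      (E.permCongrHom.injective hab)
  · obtain ⟨g, hg⟩ := MulAction.exists_smul_eq G P (e0 w)
    exact ⟨g, (hval g none w).1 hg⟩
  · refine Equiv.ext fun o => (hval _ o _).1 ?_
    cases o with
    | none => exact hPfix _ (hθP c)
    | some v =>
      show θ x y c • θ x y v • Q = θ x y (v + c) • Q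
      rw [smul_smul, ← hadd, add_comm]
  · refine ⟨(hval g (some 0) (some 0)).1 (by rw [hQ0, hgQ]), fun v w hvw => (hval g _ _).1 ?_⟩
    show g • θ x y v • Q = θ x y w • Q
    rw [smul_smul, hvw, ← smul_smul, hgQ]
  · have := (hval g (some 0) (some 0)).2 hg
    rwa [hQ0] at this

/-- A simple group of order 360 is isomorphic to the reference permutation group. -/
theorem iso_ref (h : Nat.card G = 360) : Nonempty (G ≃* refGroup) := by
  classical
  haveI : Fact (Nat.Prime 3) := ⟨Nat.prime_three⟩
  haveI : Fact (Nat.Prime 2) := ⟨Nat.prime_two⟩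
  haveI : Nontrivial (Sylow 3 G) := by
    rw [← Finite.one_lt_card_iff_nontrivial, card_sylow_three h]
    norm_num
  obtain ⟨P, Q, hPQ⟩ := exists_pair_ne (Sylow 3 G)
  have hne : Q ≠ P := hPQ.symm
  have hcub := fun {a : G} (ha : a ∈ (P : Subgroup G)) => sylow_cube h P ha
  have hPcard := sylow_card h P
  have houtside : ∀ x ∈ (P : Subgroup G), ∃ w ∈ (P : Subgroup G), w ∉ Subgroup.zpowers x := by
    intro x hx
    by_contra! hall
    have h1 := Subgroup.card_le_of_le (H := (P : Subgroup G)) (K := Subgroup.zpowers x) hall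
    rw [hPcard, Nat.card_zpowers] at h1
    have := Nat.le_of_dvd (by norm_num) (orderOf_dvd_of_pow_eq_one (hcub hx))
    omega
  set H : Subgroup G := MulAction.stabilizer G P ⊓ MulAction.stabilizer G Q with hH
  have hmemH : ∀ a, a ∈ H ↔ a • P = P ∧ a • Q = Q := fun a => Subgroup.mem_inf
  have hHnorm : ∀ j ∈ H, ∀ a ∈ (P : Subgroup G), j * a * j⁻¹ ∈ (P : Subgroup G) :=
    fun j hj a ha => (Subgroup.mem_normalizer_iff.1
      (Sylow.smul_eq_iff_mem_normalizer.1 ((hmemH j).1 hj).1) a).1 ha
  -- the two-point stabilizer has order four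
  have hH4 : Nat.card H = 4 := by
    obtain ⟨x, hx, hx1⟩ : ∃ x ∈ (P : Subgroup G), x ≠ 1 := by
      by_contra! hall
      rw [(Subgroup.eq_bot_iff_forall _).2 hall, Subgroup.card_bot] at hPcard
      omega
    obtain ⟨y, hy, hyx⟩ := houtside x hx
    obtain ⟨φ, hφi, hφP, -, hφs, hφH, hφQ⟩ := coords h hne hx hy hx1 hyx
    have hcN : Nat.card {a : G // φ a none = none} = 36 := by
      rw [Nat.card_congr (Equiv.subtypeEquivRight fun a =>
        (hφP a).trans Sylow.smul_eq_iff_mem_normalizer)]
      exact card_normalizer h P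
    have hc : ∀ a : {a : G // φ a none = none}, ∃ c : V, φ a.1 (some 0) = some c := by
      intro a
      cases hq : φ a.1 (some 0) with
      | none => exact absurd ((φ a.1).injective (hq.trans a.2.symm)) (Option.some_ne_none _)
      | some c => exact ⟨c, rfl⟩
    choose C hC using hc
    have hs0 : ∀ c, shiftP c none = none ∧ shiftP c (some 0) = some c ∧
        (shiftP c)⁻¹ none = none ∧ (shiftP c)⁻¹ (some c) = some 0 := fun c =>
      ⟨rfl, congrArg some (zero_add c), rfl, congrArg some (add_neg_cancel c)⟩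
    have e : {a : G // φ a none = none} ≃ V × H :=
      { toFun := fun a => (C a, ⟨(θ x y (C a))⁻¹ * a.1, (hmemH _).2 ⟨(hφP _).1 (by
            rw [map_mul, map_inv, hφs, Equiv.Perm.mul_apply, a.2, (hs0 _).2.2.1]),
          hφQ _ (by rw [map_mul, map_inv, hφs, Equiv.Perm.mul_apply, hC a, (hs0 _).2.2.2])⟩⟩)
        invFun := fun b => ⟨θ x y b.1 * b.2.1, by
          rw [map_mul, hφs, Equiv.Perm.mul_apply, (hφP _).2 ((hmemH _).1 b.2.2).1, (hs0 _).1]⟩
        left_inv := fun a => Subtype.ext (mul_inv_cancel_left _ _)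
        right_inv := fun b => by
          have hb := (hmemH _).1 b.2.2
          have hbN : φ (θ x y b.1 * b.2.1) none = none := by
            rw [map_mul, hφs, Equiv.Perm.mul_apply, (hφP _).2 hb.1, (hs0 _).1]
          have h1 : φ (θ x y b.1 * b.2.1) (some 0) = some b.1 := by
            rw [map_mul, hφs, Equiv.Perm.mul_apply, (hφH _ hb.1 hb.2).1, (hs0 _).2.1]
          have hCb : C ⟨_, hbN⟩ = b.1 := Option.some_injective _ ((hC ⟨_, hbN⟩).symm.trans h1)
          refine Prod.ext hCb (Subtype.ext ?_)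
          show (θ x y (C ⟨_, hbN⟩))⁻¹ * (θ x y b.1 * b.2.1) = b.2.1
          rw [hCb, inv_mul_cancel_left] }
    rw [Nat.card_congr e, Nat.card_prod, show Nat.card V = 9 by simp] at hcN
    omega
  -- its involutions invert `P`
  have hinv : ∀ j ∈ H, j * j = 1 → j ≠ 1 → ∀ a ∈ (P : Subgroup G), j * a * j⁻¹ = a⁻¹ := by
    intro j hj hjj hj1
    obtain ⟨hjP, hjQ⟩ := (hmemH j).1 hj
    have hnofix : ∀ x ∈ (P : Subgroup G), j * x = x * j → x = 1 := by
      intro x hx hjx
      by_contra hx1
      obtain ⟨w, hw, hwx⟩ := houtside x hx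
      set y := w⁻¹ * (j * w * j⁻¹) with hy
      have hyP : y ∈ (P : Subgroup G) := mul_mem (inv_mem hw) (hHnorm j hj w hw)
      have hji : j⁻¹ = j := inv_eq_of_mul_eq_one_right hjj
      have hyinv : j * y * j⁻¹ = y⁻¹ := by
        rw [hy]
        simp only [mul_inv_rev, inv_inv, hji, mul_assoc, hjj, mul_one]
      by_cases hyx : y ∈ Subgroup.zpowers x
      · obtain ⟨i, hi⟩ := Subgroup.mem_zpowers_iff.1 hyx
        have hjy : j * y * j⁻¹ = y := by
          rw [← hi, (Commute.zpow_right hjx i).eq, mul_inv_cancel_right]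
        have hy1 : y = 1 := by
          have h2 : y * y = 1 := mul_eq_one_iff_eq_inv.2 (hjy.symm.trans hyinv)
          have h3 := hcub hyP
          rwa [pow_succ, pow_two, h2, one_mul] at h3
        have hjw : j * w * j⁻¹ = w := by
          rw [hy, inv_mul_eq_one] at hy1
          exact hy1.symm
        -- so `j` centralises `P`
        have hsub : (P : Subgroup G) ≤ Subgroup.centralizer ({j} : Set G) := by
          set D := (P : Subgroup G) ⊓ Subgroup.centralizer ({j} : Set G)
          have hxD : Subgroup.zpowers x ≤ D := Subgroup.zpowers_le.2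
            (Subgroup.mem_inf.2 ⟨hx, Subgroup.mem_centralizer_singleton_iff.2 hjx.symm⟩)
          have hwD : w ∈ D := Subgroup.mem_inf.2 ⟨hw, Subgroup.mem_centralizer_singleton_iff.2 (by
            calc w * j = j * w * j⁻¹ * j := by rw [hjw]
              _ = j * w := inv_mul_cancel_right _ _)⟩
          have hlt : Subgroup.zpowers x < D := lt_of_le_of_ne hxD fun e => hwx (e ▸ hwD)
          have hDle : D ≤ (P : Subgroup G) := inf_le_left
          have hdvd := Subgroup.card_dvd_of_le hDle
          rw [hPcard] at hdvd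
          have hD : Nat.card D = 9 := by
            have h2 : 3 < Nat.card D := by
              have h3 : Nat.card (Subgroup.zpowers x) = 3 := by
                rw [Nat.card_zpowers, orderOf_eq_prime (hcub hx) hx1]
              rw [← h3]
              refine lt_of_le_of_ne (Subgroup.card_le_of_le hxD) fun e => hlt.ne ?_
              exact Subgroup.eq_of_le_of_card_ge hxD e.ge
            obtain ⟨i, hi, he⟩ := (Nat.dvd_prime_pow Nat.prime_three (m := 2)).1 hdvd
            interval_cases i <;> rw [he] at h2 ⊢ <;> (try norm_num at h2) <;> norm_num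
          have : D = (P : Subgroup G) :=
            Subgroup.eq_of_le_of_card_ge hDle (by rw [hD, hPcard])
          exact this ▸ inf_le_right
        exact hj1 (eq_one_of_centralizes h hne (fun a ha =>
          (Subgroup.mem_centralizer_singleton_iff.1 (hsub ha)).symm) hjQ)
      · obtain ⟨φ, hφi, hφP, -, hφs, hφH, -⟩ := coords h hne hx hyP hx1 hyx
        have hflip : φ j = flipP := by
          refine Equiv.ext fun o => ?_
          cases o with
          | none => rw [(hφP j).2 hjP]; rfl
          | some v =>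
            rw [(hφH j hjP hjQ).2 v (v.1, -v.2) ?_]
            · rfl
            · unfold θ
              have h1 : y ^ (-v.2).val = (y ^ v.2.val)⁻¹ := by
                refine eq_inv_of_mul_eq_one_left ?_
                rw [← pow_val_add (hcub hyP), neg_add_cancel, ZMod.val_zero, pow_zero]
              rw [h1, ← mul_assoc, (Commute.pow_right hjx v.1.val).eq, mul_assoc, mul_assoc]
              refine congrArg _ ?_
              rw [← inv_pow, ← hyinv, conj_pow, inv_mul_cancel_right]
        have h1 := eq_one_of_monoidHom (hnc h) (Equiv.Perm.sign.comp φ) j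
        rw [MonoidHom.comp_apply, hflip, sign_flipP] at h1
        exact absurd h1 (by decide)
    intro a ha
    have hji : j⁻¹ = j := inv_eq_of_mul_eq_one_right hjj
    have hb := hHnorm j hj a ha
    have hfix : j * (a * (j * a * j⁻¹)) = (a * (j * a * j⁻¹)) * j := by
      have hc := sylow_comm h P ha hb
      calc j * (a * (j * a * j⁻¹)) = (j * a * j⁻¹) * (j * j) * a * j⁻¹ := by group
        _ = (j * a * j⁻¹) * a * j := by rw [hjj, mul_one, hji]
        _ = (a * (j * a * j⁻¹)) * j := by rw [hc]
    exact eq_inv_of_mul_eq_one_right (hnofix _ (mul_mem ha hb) hfix)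
  -- it is cyclic
  obtain ⟨k, hkH, hko⟩ : ∃ k ∈ H, orderOf k = 4 := by
    by_contra! hno
    have hord : ∀ a ∈ H, a * a = 1 := by
      intro a ha
      have h1 : orderOf (⟨a, ha⟩ : H) ∣ Nat.card H := orderOf_dvd_natCard _
      rw [Subgroup.orderOf_mk, hH4] at h1
      obtain ⟨i, hi, he⟩ := (Nat.dvd_prime_pow Nat.prime_two (m := 2)).1 h1
      have h2 : orderOf a ∣ 2 := by
        interval_cases i
        · rw [he]; norm_num
        · rw [he]; norm_num
        · exact absurd (he.trans (by norm_num)) (hno a ha)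
      rw [← pow_two]
      exact orderOf_dvd_iff_pow_eq_one.1 h2
    haveI : Nontrivial H := by rw [← Finite.one_lt_card_iff_nontrivial, hH4]; norm_num
    obtain ⟨⟨j, hj⟩, hj1⟩ := exists_ne (1 : H)
    have hj1' : j ≠ 1 := fun e => hj1 (Subtype.ext e)
    have hall : ∀ j' ∈ H, j' = 1 ∨ j' = j := by
      intro j' hj'
      by_contra! hh
      have hc : j' * j = 1 := eq_one_of_centralizes h hne (fun a ha => by
        have e1 := hinv j hj (hord j hj) hj1' a ha
        have e2 := hinv j' hj' (hord j' hj') hh.1 a⁻¹ (inv_mem ha)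
        rw [inv_inv] at e2
        calc j' * j * a = j' * (j * a * j⁻¹) * j := by group
          _ = j' * a⁻¹ * j := by rw [e1]
          _ = (j' * a⁻¹ * j'⁻¹) * j' * j := by group
          _ = a * (j' * j) := by rw [e2, mul_assoc]) ((hmemH _).1 (mul_mem hj' hj)).2
      exact hh.2 ((mul_eq_one_iff_eq_inv.1 hc).trans (inv_eq_of_mul_eq_one_right (hord j hj)))
    have hle : (Nat.card H) ≤ 2 := by
      let f : H → Bool := fun a => decide (a.1 = 1)
      have hf : Function.Injective f := by
        intro a b hab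
        have hab' : (a.1 = 1) ↔ (b.1 = 1) := by simpa [f] using hab
        rcases hall a.1 a.2 with ha | ha
        · exact Subtype.ext (ha.trans (hab'.1 ha).symm)
        · rcases hall b.1 b.2 with hb | hb
          · exact Subtype.ext ((hab'.2 hb).trans hb.symm)
          · exact Subtype.ext (ha.trans hb.symm)
      simpa using Nat.card_le_card_of_injective f hf
    omega
  obtain ⟨hkP, hkQ⟩ := (hmemH k).1 hkH
  have hk2 : ∀ a ∈ (P : Subgroup G), k * (k * a * k⁻¹) * k⁻¹ = a⁻¹ := by
    intro a ha
    have h1 : k * k * (k * k) = 1 := by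
      rw [← pow_two, ← pow_two, ← pow_mul]
      exact orderOf_dvd_iff_pow_eq_one.1 hko.dvd
    have h2 : k * k ≠ 1 := fun e => by
      have := orderOf_dvd_of_pow_eq_one (show k ^ 2 = 1 by rw [pow_two, e])
      rw [hko] at this
      norm_num at this
    rw [← hinv (k * k) (mul_mem hkH hkH) h1 h2 a ha]
    group
  obtain ⟨x, hx, hx1⟩ : ∃ x ∈ (P : Subgroup G), x ≠ 1 := by
    by_contra! hall
    rw [(Subgroup.eq_bot_iff_forall _).2 hall, Subgroup.card_bot] at hPcard
    omega
  set y := k * x * k⁻¹ with hy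
  have hyP : y ∈ (P : Subgroup G) := hHnorm k hkH x hx
  have hyx : y ∉ Subgroup.zpowers x := by
    intro hmem
    obtain ⟨i, hi⟩ := Subgroup.mem_zpowers_iff.1 hmem
    have h1 : k * y * k⁻¹ = x⁻¹ := hk2 x hx
    rw [← hi, ← conj_zpow, ← hy, ← hi, ← zpow_mul] at h1
    have h2 : x ^ (i * i + 1) = 1 := by
      rw [zpow_add, h1, zpow_one, inv_mul_cancel]
    have h3 : (3 : ℤ) ∣ i * i + 1 := by
      have := orderOf_dvd_iff_zpow_eq_one.2 h2
      rw [orderOf_eq_prime (hcub hx) hx1] at this
      exact_mod_cast this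
    have h4 : ((i * i + 1 : ℤ) : ZMod 3) = 0 := (ZMod.intCast_zmod_eq_zero_iff_dvd _ 3).2 h3
    push_cast at h4
    exact zmod_three_no_sqrt _ h4
  obtain ⟨φ, hφi, hφP, hφtr, hφs, hφH, hφQ⟩ := coords h hne hx hyP hx1 hyx
  have hmul : ∀ a b o, φ (a * b) o = φ a (φ b o) := fun a b o => by rw [map_mul]; rfl
  have hinvap : ∀ a o, φ a⁻¹ (φ a o) = o := fun a o => by
    rw [← hmul, inv_mul_cancel, map_one]; rfl
  have hext : ∀ a b, (∀ o, φ a o = φ b o) → a = b := fun a b hab => hφi (Equiv.ext hab)
  have hturn : φ k = turn := by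
    refine Equiv.ext fun o => ?_
    cases o with
    | none => rw [(hφP k).2 hkP]; rfl
    | some v =>
      rw [(hφH k hkP hkQ).2 v (mulV (0, 1) v) ?_]
      · rfl
      · have hw : mulV (0, 1) v = (-v.2, v.1) := by
          unfold mulV
          simp
        rw [hw]
        unfold θ
        have h1 : x ^ (-v.2).val = (x ^ v.2.val)⁻¹ := by
          refine eq_inv_of_mul_eq_one_left ?_
          rw [← pow_val_add (hcub hx), neg_add_cancel, ZMod.val_zero, pow_zero]
        have h2 : k * y * k⁻¹ = x⁻¹ := hk2 x hx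
        have h3 : k * (x ^ v.1.val * y ^ v.2.val) * k⁻¹ = y ^ v.1.val * (x ^ v.2.val)⁻¹ := by
          have e1 : y ^ v.1.val = k * x ^ v.1.val * k⁻¹ := by rw [hy, conj_pow]
          rw [← inv_pow, ← h2, e1, show (k * y * k⁻¹) ^ v.2.val = k * y ^ v.2.val * k⁻¹ from conj_pow]
          group
        rw [h1, sylow_comm h P (inv_mem (pow_mem hx _)) (pow_mem hyP _), ← h3,
          inv_mul_cancel_right]
  have hkpow : ∀ n : ℕ, φ (k ^ n) none = none ∧
      ∀ z : V, φ (k ^ n) (some z) = some (mulV (ip n) z) := by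
    intro n
    induction n with
    | zero => simp [ip, mulV_one]
    | succ n ih =>
      refine ⟨by rw [pow_succ', hmul, ih.1, (hφP k).2 hkP], fun z => ?_⟩
      rw [pow_succ', hmul, ih.2, hturn]
      show some (mulV (0, 1) (mulV (ip n) z)) = some (mulV (mulV (0, 1) (ip n)) z)
      rw [mulV_assoc]
  have hHk : ∀ a ∈ H, ∃ n : ℕ, a = k ^ n := by
    intro a ha
    have e : Subgroup.zpowers k = H := Subgroup.eq_of_le_of_card_ge (Subgroup.zpowers_le.2 hkH)
      (by rw [Nat.card_zpowers, hko, hH4])
    rw [← e] at ha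
    obtain ⟨n, hn⟩ := mem_powers_iff_mem_zpowers.2 ha
    exact ⟨n, hn.symm⟩
  have hshift : ∀ c z, φ (θ x y c) none = none ∧ φ (θ x y c) (some z) = some (z + c) :=
    fun c z => by rw [hφs]; exact ⟨rfl, rfl⟩
  have haff : ∀ a, φ a none = none → ∃ n : ℕ, ∃ c, a = θ x y c * k ^ n := by
    intro a ha
    cases hq : φ a (some 0) with
    | none => exact absurd ((φ a).injective (hq.trans ha.symm)) (Option.some_ne_none _)
    | some c =>
      have hmem : (θ x y c)⁻¹ * a ∈ H := by
        refine (hmemH _).2 ⟨(hφP _).1 ?_, hφQ _ ?_⟩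
        · rw [hmul, ha]
          exact (congrArg (φ (θ x y c)⁻¹) (hshift c 0).1).symm.trans (hinvap _ _)
        · rw [hmul, hq]
          have h0 := (hshift c 0).2
          rw [zero_add] at h0
          exact (congrArg (φ (θ x y c)⁻¹) h0).symm.trans (hinvap _ _)
      obtain ⟨n, hn⟩ := hHk _ hmem
      exact ⟨n, c, by rw [← hn, mul_inv_cancel_left]⟩
  -- an involution interchanging the base points
  obtain ⟨t, hto, htN, ht0⟩ : ∃ t : G, orderOf t = 2 ∧ φ t none = some 0 ∧
      φ t (some 0) = none := by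
    obtain ⟨u, hu⟩ := exists_prime_orderOf_dvd_card' (G := G) 2 (by rw [h]; norm_num)
    have huu : ∀ o, φ u (φ u o) = o := fun o => by
      rw [← hmul, ← pow_two, ← hu, pow_orderOf_eq_one, map_one]; rfl
    have hu1 : u ≠ 1 := fun e => by simp [e] at hu
    obtain ⟨w, hw⟩ : ∃ w, φ u w ≠ w := by
      by_contra! hall
      exact hu1 (hext u 1 fun o => by rw [map_one]; exact hall o)
    obtain ⟨a, ha⟩ := hφtr w
    cases hq : φ a⁻¹ (φ u w) with
    | none =>
      have := congrArg (φ a) hq
      rw [← hmul, mul_inv_cancel, map_one] at this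
      exact absurd (this.trans ha) hw
    | some c =>
      set b := a * θ x y c with hb
      have hbN : φ b none = w := by rw [hb, hmul, (hshift c 0).1, ha]
      have hb0 : φ b (some 0) = φ u w := by
        rw [hb, hmul, (hshift c 0).2, zero_add, ← hq, ← hmul, mul_inv_cancel, map_one]
        rfl
      refine ⟨b⁻¹ * u * b, ?_, ?_, ?_⟩
      · have : b⁻¹ * u * b = MulAut.conj b⁻¹ u := by simp
        rw [this, MulEquiv.orderOf_eq, hu]
      · rw [hmul, hmul, hbN, ← hb0, hinvap]
      · rw [hmul, hmul, hb0, huu, ← hbN, hinvap]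
  have htt : ∀ o, φ t (φ t o) = o := fun o => by
    rw [← hmul, ← pow_two, ← hto, pow_orderOf_eq_one, map_one]; rfl
  have htsome : ∀ z : V, z ≠ 0 → ∃ w : V, w ≠ 0 ∧ φ t (some z) = some w := by
    intro z hz
    cases hq : φ t (some z) with
    | none => exact absurd (Option.some_injective _ ((φ t).injective (hq.trans ht0.symm))) hz
    | some w =>
      refine ⟨w, ?_, rfl⟩
      rintro rfl
      exact Option.some_ne_none _ ((φ t).injective (hq.trans htN.symm))
  obtain ⟨A, hA0, hA⟩ := htsome (1, 0) one_ne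
  obtain ⟨B, hB0, hB⟩ := htsome (1, 1) gen_ne
  have hkk : t * k * t ∈ H := (hmemH _).2
    ⟨(hφP _).1 (by rw [hmul, hmul, htN, (hφH k hkP hkQ).1, ht0]),
      hφQ _ (by rw [hmul, hmul, ht0, (hφP k).2 hkP, htN])⟩
  obtain ⟨s₀, hs₀⟩ := hHk _ hkk
  set s : Fin 4 := ⟨s₀ % 4, Nat.mod_lt _ (by norm_num)⟩
  have hstep : ∀ z w : V, φ t (some z) = some w →
      φ t (some (mulV (0, 1) z)) = some (mulV (ip s) w) := by
    intro z w hzw
    have h1 := (hkpow s₀).2 w
    rw [← hs₀, hmul, hmul, ← hzw, htt, hturn] at h1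
    show φ t (some (mulV (0, 1) z)) = some (mulV (ip (s₀ % 4)) w)
    rw [ip_mod]
    exact h1
  have hipow : ∀ n : ℕ, φ t (some (ip n)) = some (mulV (ip (s * n)) A) ∧
      φ t (some (mulV (1, 1) (ip n))) = some (mulV (ip (s * n)) B) := by
    intro n
    induction n with
    | zero =>
      simp only [Nat.mul_zero, ip, mulV_one]
      refine ⟨hA, ?_⟩
      rw [mulV_comm, mulV_one]
      exact hB
    | succ n ih =>
      have e : (s : ℕ) * (n + 1) = s + s * n := by ring
      refine ⟨?_, ?_⟩
      · show φ t (some (mulV (0, 1) (ip n))) = _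
        rw [hstep _ _ ih.1, e, ip_add, mulV_assoc]
      · show φ t (some (mulV (1, 1) (mulV (0, 1) (ip n)))) = _
        rw [← mulV_assoc, mulV_comm (1, 1), mulV_assoc, hstep _ _ ih.2, e, ip_add, mulV_assoc]
  have hT : ∀ o, φ t o = tab s A B o := by
    intro o
    cases o with
    | none => exact htN
    | some z =>
      show φ t (some z) = if z = 0 then none else some _
      split_ifs with hz hlt
      · rw [hz, ht0]
      · obtain ⟨-, hrep⟩ := idx_spec z hz
        conv_lhs => rw [← hrep]
        rw [rep, if_pos hlt, (hipow _).1, ip_mod]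
      · obtain ⟨-, hrep⟩ := idx_spec z hz
        conv_lhs => rw [← hrep]
        rw [rep, if_neg hlt, (hipow _).2, ip_mod]
  obtain ⟨⟨K, hK⟩, hTform⟩ := tab_unique s A B hA0 hB0
    (fun v => by rw [← hT, ← hT, htt])
    (fun v hv => by
      obtain ⟨w, -, hw⟩ := htsome v hv
      set W := t * θ x y (-w) * t * θ x y v * t with hW
      have hWo : ∀ o, φ W o = word s A B v o := by
        intro o
        rw [hW, hmul, hmul, hmul, hmul]
        unfold word
        rw [← hT (some v), hw, Option.getD_some, ← hT o, ← hT, ← hT, hφs, hφs]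
        rfl
      have hWN : φ W none = none := by
        rw [hW, hmul, hmul, hmul, hmul, htN, (hshift v 0).2, zero_add, hw, (hshift (-w) w).2,
          add_neg_cancel, ht0]
      obtain ⟨n, c, hnc'⟩ := haff W hWN
      refine ⟨⟨n % 4, Nat.mod_lt _ (by norm_num)⟩, fun z => ?_⟩
      rw [← hWo, ← hWo, hnc', hmul, hmul, (hkpow n).2, (hkpow n).2, (hshift c _).2, (hshift c _).2,
        ip_mod]
      simp [mulV_zero])
  -- normalise
  obtain ⟨L, Li, hLi, hL⟩ := scale_spec K
  have hLi' : mulV Li L = (1, 0) := by rw [mulV_comm, hLi]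
  let σ : Equiv.Perm (Option V) := Equiv.optionCongr
    { toFun := mulV L
      invFun := mulV Li
      left_inv := fun z => by rw [← mulV_assoc, hLi', mulV_one]
      right_inv := fun z => by rw [← mulV_assoc, hLi, mulV_one] }
  have hσ : ∀ z, σ (some z) = some (mulV L z) := fun z => rfl
  let ψ : G →* Equiv.Perm (Option V) := (MulAut.conj σ).toMonoidHom.comp φ
  have hψ : ∀ a o, ψ a (σ o) = σ (φ a o) := fun a o => by
    show σ (φ a (σ.symm (σ o))) = _
    rw [σ.symm_apply_apply]
  have hψs : ∀ c, ψ (θ x y c) = shiftP (mulV L c) := by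
    intro c
    refine Equiv.ext fun o => ?_
    obtain ⟨o, rfl⟩ := σ.surjective o
    rw [hψ]
    cases o with
    | none => rw [(hshift c 0).1]; rfl
    | some z =>
      rw [(hshift c z).2, hσ, hσ, mulV_add]
      rfl
  have hψk : ψ k = turn := by
    refine Equiv.ext fun o => ?_
    obtain ⟨o, rfl⟩ := σ.surjective o
    rw [hψ, hturn]
    cases o with
    | none => rfl
    | some z =>
      show some (mulV L (mulV (0, 1) z)) = some (mulV (0, 1) (mulV L z))
      rw [← mulV_assoc, mulV_comm L, mulV_assoc]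
  have hψt : ψ t = swapP := by
    refine Equiv.ext fun o => ?_
    obtain ⟨o, rfl⟩ := σ.surjective o
    rw [hψ]
    have hL0 : mulV L 0 = 0 := mulV_zero L
    cases o with
    | none => rw [htN, hσ, hL0]; rfl
    | some z =>
      rw [hσ]
      rcases eq_or_ne z 0 with rfl | hz
      · rw [ht0, hL0]; rfl
      · have hLz : mulV L z ≠ 0 := fun e => hz (by
          rw [← mulV_one z, ← hLi', mulV_assoc, e, mulV_zero])
        obtain ⟨e1, -⟩ := scale_swap K L Li (mulV L z) hLi hL hLz
        rw [← mulV_assoc Li, hLi', mulV_one] at e1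
        rw [hT, hTform z hz, hσ, hK, e1]
        show some (invV (mulV L z)) = if mulV L z = 0 then none else some (invV (mulV L z))
        rw [if_neg hLz]
  have hψi : Function.Injective ψ := (MulAut.conj σ).injective.comp hφi
  have hrange : ψ.range = refGroup := by
    apply le_antisymm
    · rintro _ ⟨a, rfl⟩
      have hgenmem : ∀ (c : V) (n : ℕ), ψ (θ x y c * k ^ n) ∈ refGroup := fun c n => by
        rw [map_mul, map_pow, hψs, hψk]
        exact mul_mem (Subgroup.subset_closure (k := Set.range shiftP ∪ {turn, swapP}) (Or.inl ⟨_, rfl⟩))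
          (pow_mem (Subgroup.subset_closure (k := Set.range shiftP ∪ {turn, swapP}) (Or.inr (Or.inl rfl))) n)
      cases hq : φ a none with
      | none =>
        obtain ⟨n, c, rfl⟩ := haff a hq
        exact hgenmem c n
      | some w =>
        have h1 : φ (t * (θ x y w)⁻¹ * a) none = none := by
          have h2 := (hshift w 0).2
          rw [zero_add] at h2
          rw [hmul, hmul, hq, (congrArg (φ (θ x y w)⁻¹) h2).symm.trans (hinvap _ _), ht0]
        obtain ⟨n, c, hnc'⟩ := haff _ h1
        have h2 : a = θ x y w * k ^ 0 * t⁻¹ * (t * (θ x y w)⁻¹ * a) := by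
          rw [pow_zero]; group
        rw [h2, map_mul, map_mul, map_inv, hnc', hψt]
        exact mul_mem (mul_mem (hgenmem _ _)
          (inv_mem (Subgroup.subset_closure (k := Set.range shiftP ∪ {turn, swapP}) (Or.inr (Or.inr rfl))))) (hgenmem _ _)
    · refine (Subgroup.closure_le _).2 ?_
      rintro _ (⟨c, rfl⟩ | rfl | rfl)
      · exact ⟨θ x y (mulV Li c), by rw [hψs, ← mulV_assoc, hLi, mulV_one]⟩
      · exact ⟨k, hψk⟩
      · exact ⟨t, hψt⟩
  exact ⟨(MonoidHom.ofInjective hψi).trans (MulEquiv.subgroupCongr hrange)⟩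

theorem iso_alternating (h : Nat.card G = 360) : Nonempty (G ≃* alternatingGroup (Fin 6)) := by
  haveI : IsSimpleGroup (alternatingGroup (Fin 6)) := alternatingGroup.isSimpleGroup (by simp)
  obtain ⟨e⟩ := iso_ref h
  obtain ⟨e'⟩ := iso_ref (G := alternatingGroup (Fin 6)) (by
    rw [nat_card_alternatingGroup]; simp [Nat.factorial])
  exact ⟨e.trans e'.symm⟩

end Cfsg.Lib.Components.OrderThreeSixty
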